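import Groth.Agent.H19AbSch.OmegaGrp
import Groth.Agent.H28RR.Omega
import Groth.Agent.H28Pinch.DirectImageTrivial
import Groth.Agent.LeadBC.GeomConn
import Groth.Agent.LeadBC.GenBC.AppIsoApps
import Groth.Agent.H19Grp.Cartier

/-!
# Differentials of an abelian scheme
-/

set_option autoImplicit false
set_option linter.style.haveILetI false
set_option backward.isDefEq.respectTransparency false
set_option maxHeartbeats 1000000

universe u

open CategoryTheory CategoryTheory.Limits MonoidalCategory CartesianMonoidalCategory MonObj GrpObj AlgebraicGeometry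
  TopologicalSpace Opposite

noncomputable section

namespace Groth.Agent.H19AbSch.OmegaAbScheme

set_option backward.isDefEq.respectTransparency.types false in
/-- Differentials of a smooth morphism are finite locally free. -/
theorem isFinLocFree_omega {X S : Scheme.{u}} (f : X ⟶ S) [QuasiSeparated f] [Smooth f] :
    FlatMod.IsFinLocFree (Omega.sheaf f) := fun x => by
  obtain ⟨V, hV, U, hU, hxU, e, h⟩ := Smooth.exists_isStandardSmooth f x
  haveI : Nonempty U := ⟨⟨x, hxU⟩⟩
  have hiso := H17.OmegaLocal.isIso_toSect f hU hV e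
  let E := (asIso (OmAff.toSect f V U e)).toLinearEquiv
  let α := f.appLE V U e
  algebraize [α.hom]
  haveI : Algebra.IsStandardSmooth Γ(S, V) Γ(X, U) := h
  let β' : Module.Basis (Fin (Module.finrank Γ(X, U) Ω[Γ(X, U)⁄Γ(S, V)])) Γ(X, U) Γ(Omega.sheaf f, U) :=
    (Module.finBasis _ _).map E
  let one : Γ(X, U) := 1
  haveI := H8Props.FinLocFree.isIso_basicHom (Omega.sheaf f) (H29Omega.isQCoh_sheaf f) hU one
    (r := Module.finrank Γ(X, U) Ω[Γ(X, U)⁄Γ(S, V)]) (fun j => β' j)
    (fun y => ⟨1, one_mem _, by
      rw [one_smul, ← β'.sum_repr y]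
      exact Submodule.sum_mem _ fun j _ => Submodule.smul_mem _ _ (Submodule.subset_span ⟨j, rfl⟩)⟩)
    (fun c hc j => ⟨1, one_mem _, by
      rw [_root_.one_mul]; exact Fintype.linearIndependent_iff.1 β'.linearIndependent c hc j⟩)
  refine ⟨X.basicOpen one, _, ?_, ⟨(asIso (H29Fitt.basicHom (Omega.sheaf f) one fun j => β' j)).symm⟩⟩
  rw [Scheme.basicOpen_one]; exact hxU

variable {S : Scheme.{u}} (A : Over S) [GrpObj A] [IsProper A.hom] [Flat A.hom]
    [LocallyOfFinitePresentation A.hom] [GeometricallyReduced A.hom] [GeometricallyConnected A.hom]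

omit [GrpObj A] in
/-- Functions on an abelian scheme come from the base. -/
theorem bijective_app (U : S.Opens) : Function.Bijective (A.hom.app U) := by
  haveI := LeadBC.GenBC.isIso_app_of_fibres A.hom (LeadBC.GeomConn.isIso_appTop_fibre A.hom fun K _ _ g =>
    ⟨GeometricallyReduced.geometrically_isReduced (f := A.hom) g _ _ (.of_hasPullback A.hom g),
      GeometricallyConnected.geometrically_connectedSpace (f := A.hom) g _ _ (.of_hasPullback A.hom g)⟩) U
  exact ConcreteCategory.bijective_of_isIso (A.hom.app U)

/-- Invariant differentials are locally free and give all differentials. -/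
theorem main : FlatMod.IsFinLocFree ((Scheme.Modules.pullback η[A].left).obj (Omega.sheaf A.hom)) ∧
    Nonempty (Omega.sheaf A.hom ≅
      (Scheme.Modules.pullback A.hom).obj ((Scheme.Modules.pullback η[A].left).obj (Omega.sheaf A.hom))) := by
  haveI : Smooth A.hom := H19Grp.smooth_of_flat_of_geometricallyReduced A
  have hF := H16Derived.KFlat.Stalk.isFinLocFree_pullback η[A].left (isFinLocFree_omega A.hom)
  obtain ⟨e⟩ := OmegaGrp.nonempty_omega_iso A
  obtain ⟨ec⟩ := OmegaGrp.nonempty_conormal_iso A.hom η[A].left (Over.w η[A])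
  exact ⟨hF, ⟨e ≪≫ (Scheme.Modules.pullback A.hom).mapIso ec⟩⟩

/-- The unit is an isomorphism at the invariant differentials. -/
theorem isIso_unit : IsIso ((Scheme.Modules.pullbackPushforwardAdjunction A.hom).unit.app
    ((Scheme.Modules.pullback η[A].left).obj (Omega.sheaf A.hom))) :=
  H28Pinch.isIso_unit_of_isFinLocFree A.hom (bijective_app A) _ (main A).1

end Groth.Agent.H19AbSch.OmegaAbScheme
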