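import Groth.Prelude.Def_Omega4
import Groth.Agent.H17.PrinOmega
import Groth.Agent.H17.OmegaLocal
import Groth.Agent.H26Def.SqZero
import Groth.Agent.H26Def.MonoIdeal
import Groth.Agent.H17.PullSectLocal
import Groth.Agent.H29Fitt.PullbackQCoh
import Groth.Agent.H16Derived.KFlat.FinLocFree
import Groth.Agent.S9370
import Groth.Agent.S9386
import Groth.Agent.S9384
import Groth.Agent.S9750

/-!
# Differentials of a group scheme

`Ω_{G/S}` is the pullback of the conormal module of the unit section, for every quasi-separated group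
scheme (no flatness); over a field it is a free module.
-/

set_option autoImplicit false
set_option linter.style.haveILetI false
set_option backward.isDefEq.respectTransparency false
set_option maxHeartbeats 1000000

universe u

open CategoryTheory CategoryTheory.Limits MonoidalCategory CartesianMonoidalCategory MonObj GrpObj AlgebraicGeometry
  TopologicalSpace Opposite

noncomputable section

namespace Groth.Agent.H19AbSch.OmegaGrp

/-- A morphism kills the sections of its kernel ideal. -/
theorem app_idealModι {Y Z : Scheme.{u}} (i : Y ⟶ Z) (U : Z.Opens)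
    (s : Γ(ClSub.idealMod i.ker, U)) : i.app U ((ClSub.idealModι i.ker).app U s) = 0 := by
  have h : ClSub.idealModι i.ker ≫ ClSub.unitToPush i.imageι = 0 := kernel.condition _
  have h' : ClSub.idealModι i.ker ≫ ClSub.unitToPush (i.toImage ≫ i.imageι) = 0 := by
    rw [Groth.Agent.H17.OmegaAffine.unitToPush_comp, reassoc_of% h, zero_comp]
  have := congr($(h').app U s)
  change (i.toImage ≫ i.imageι).app U ((ClSub.idealModι i.ker).app U s) = 0 at this
  rw [Scheme.Hom.congr_app i.toImage_imageι.symm U]
  show Y.presheaf.map _ ((i.toImage ≫ i.imageι).app U _) = 0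
  rw [this, map_zero]

variable {Z X Y : Scheme.{u}} (i : Z ⟶ X) {p : X ⟶ Y} {Ω : X.Modules} (d : OmegaSh.Der p Ω)

/-- The derivation restricted to the kernel ideal, reduced modulo the ideal. -/
def diffHom :
    ClSub.idealMod i.ker ⟶ (Scheme.Modules.pushforward i).obj ((Scheme.Modules.pullback i).obj Ω) :=
  ⟨PresheafOfModules.homMk
    { app := fun U => AddCommGrpCat.ofHom (AddMonoidHom.mk'
        (fun s : Γ(ClSub.idealMod i.ker, U.unop) =>
          (OmegaSh.pullSect i Ω U.unop (d.app U.unop (OmegaSh.idealSect i.ker U.unop s)) :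
            Γ((Scheme.Modules.pullback i).obj Ω, i ⁻¹ᵁ U.unop)))
        (fun a b => (congrArg _ ((congrArg _ (map_add _ a b)).trans (map_add _ _ _))).trans (map_add _ _ _)))
      naturality := fun U V f => by
        ext s
        have h : V.unop ≤ U.unop := leOfHom f.unop
        show OmegaSh.pullSect i Ω V.unop (d.app V.unop (OmegaSh.idealSect i.ker V.unop
            ((ClSub.idealMod i.ker).presheaf.map (homOfLE h).op s))) =
          ((Scheme.Modules.pullback i).obj Ω).presheaf.map (homOfLE (i.preimage_mono h)).op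
            (OmegaSh.pullSect i Ω U.unop (d.app U.unop (OmegaSh.idealSect i.ker U.unop s)))
        rw [H29Blow.idealSect_res]
        refine Eq.trans ?_ (H11Tilde.app_map_apply ((Scheme.Modules.pullbackPushforwardAdjunction i).unit.app Ω) h _)
        exact congrArg _ (d.d_map (homOfLE h).op _) }
    fun U (r : Γ(X, U.unop)) (s : Γ(ClSub.idealMod i.ker, U.unop)) => by
      have hs : ∀ (r : Γ(X, U.unop)) (m : Γ(Ω, U.unop)),
          OmegaSh.pullSect i Ω U.unop (r • m) = i.app U.unop r • OmegaSh.pullSect i Ω U.unop m :=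
        fun r m => ((Scheme.Modules.pullbackPushforwardAdjunction i).unit.app Ω).app_smul r m
      show OmegaSh.pullSect i Ω U.unop (d.app U.unop (OmegaSh.idealSect i.ker U.unop (r • s))) =
        i.app U.unop r • OmegaSh.pullSect i Ω U.unop (d.app U.unop (OmegaSh.idealSect i.ker U.unop s))
      rw [H29Blow.idealSect_smul, show d.app U.unop (r * OmegaSh.idealSect i.ker U.unop s) =
        r • d.app U.unop (OmegaSh.idealSect i.ker U.unop s) +
          OmegaSh.idealSect i.ker U.unop s • d.app U.unop r from d.d_mul r _, map_add, hs,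
        hs, show i.app U.unop (OmegaSh.idealSect i.ker U.unop s) = 0 from app_idealModι i U.unop s]
      exact (congrArg (_ + ·) (zero_smul Γ(Z, i ⁻¹ᵁ U.unop) _)).trans (add_zero _)⟩

/-- The map from the conormal sheaf of any morphism to the restricted differentials exists. -/
theorem exists_isConormalDiff :
    ∃ φ : Omega.conormal i ⟶ (Scheme.Modules.pullback i).obj Ω, OmegaSh.IsConormalDiff i d φ := by
  let adj := Scheme.Modules.pullbackPushforwardAdjunction i
  refine ⟨(adj.homEquiv _ _).symm (diffHom i d), fun U s => ?_⟩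
  have h : adj.unit.app _ ≫ (Scheme.Modules.pushforward i).map ((adj.homEquiv _ _).symm (diffHom i d)) =
      diffHom i d := by
    exact (adj.homEquiv_unit _ _ _).symm.trans (Equiv.apply_symm_apply _ _)
  exact congr($(h).app U s)

/-- Differentials of an isomorphism vanish. -/
theorem isZero_omega_of_isIso {A B : Scheme.{u}} (q : A ⟶ B) [IsIso q] : IsZero (Omega.sheaf q) :=
  Groth.Agent.S9750.isZero_conormal_of_isIso (pullback.diagonal q)

/-- A section is a quasi-compact immersion when the morphism is quasi-separated. -/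
theorem quasiCompact_section {A B : Scheme.{u}} (f : A ⟶ B) [QuasiSeparated f] (e : B ⟶ A) (he : e ≫ f = 𝟙 B) :
    QuasiCompact e := by
  haveI : QuasiCompact (e ≫ f) := by rw [he]; infer_instance
  exact QuasiCompact.of_comp e f

/-- The conormal module of a section is the restriction of the differentials. -/
theorem nonempty_conormal_iso {A B : Scheme.{u}} (f : A ⟶ B) [QuasiSeparated f] (e : B ⟶ A) (he : e ≫ f = 𝟙 B) :
    Nonempty (Omega.conormal e ≅ (Scheme.Modules.pullback e).obj (Omega.sheaf f)) := by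
  haveI : IsImmersion e := by
    haveI : IsImmersion (e ≫ f) := by rw [he]; infer_instance
    exact IsImmersion.of_comp e f
  haveI := quasiCompact_section f e he
  haveI : IsIso (e ≫ f) := by rw [he]; infer_instance
  obtain ⟨c, hc, -⟩ := Groth.Agent.S9370.result f (e ≫ f) e (𝟙 B) (Category.comp_id _) _ _
    (Groth.Agent.H17.PrinOmega.isUniversal_dOmega f) _ _ (Groth.Agent.H17.PrinOmega.isUniversal_dOmega (e ≫ f))
  obtain ⟨φ, hφ⟩ := exists_isConormalDiff e (OmegaSh.dOmega f)
  obtain ⟨w, hex, ⟨r, hr⟩, -⟩ := Groth.Agent.S9384.result f e f he (by rw [he, Category.comp_id]) _ _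
    (Groth.Agent.H17.PrinOmega.isUniversal_dOmega f) _ _ (Groth.Agent.H17.PrinOmega.isUniversal_dOmega (e ≫ f))
    φ hφ c hc
  haveI : Mono φ := SplitMono.mono ⟨r, hr⟩
  haveI : Epi φ := hex.epi_f ((isZero_omega_of_isIso (e ≫ f)).eq_of_tgt _ _)
  haveI : IsIso φ := isIso_of_mono_of_epi φ
  exact ⟨asIso φ⟩

/-- Base change of differentials along a cartesian square. -/
theorem nonempty_omega_baseChange {A S A' S' : Scheme.{u}} (f : A ⟶ S) (g : S' ⟶ S) (g' : A' ⟶ A)
    (f' : A' ⟶ S') [QuasiSeparated f] [QuasiSeparated f'] (hsq : IsPullback g' f' f g) :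
    Nonempty ((Scheme.Modules.pullback g').obj (Omega.sheaf f) ≅ Omega.sheaf f') := by
  obtain ⟨c, hc, -⟩ := Groth.Agent.S9370.result f f' g' g hsq.w.symm _ _
    (Groth.Agent.H17.PrinOmega.isUniversal_dOmega f) _ _ (Groth.Agent.H17.PrinOmega.isUniversal_dOmega f')
  haveI := Groth.Agent.S9386.result f g g' f' hsq _ _
    (Groth.Agent.H17.PrinOmega.isUniversal_dOmega f) _ _
    (Groth.Agent.H17.PrinOmega.isUniversal_dOmega f') c hc
  exact ⟨asIso c⟩

/-- Composite of pullbacks along equal composites. -/
def pullComposeIso {A B C : Scheme.{u}} (a : A ⟶ B) (b : B ⟶ C) (c : A ⟶ C) (h : a ≫ b = c) (M : C.Modules) :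
    (Scheme.Modules.pullback a).obj ((Scheme.Modules.pullback b).obj M) ≅ (Scheme.Modules.pullback c).obj M :=
  (Scheme.Modules.pullbackComp a b).app M ≪≫ (Scheme.Modules.pullbackCongr h).app M

variable {S : Scheme.{u}} (G : Over S) [GrpObj G] [QuasiSeparated G.hom]

/-- Differentials of a group scheme are pulled back from the unit. -/
theorem nonempty_omega_iso :
    Nonempty (Omega.sheaf G.hom ≅ (Scheme.Modules.pullback G.hom).obj (Omega.conormal η[G].left)) := by
  let g : G ⊗ G ⟶ G := (fst G G)⁻¹ * snd G G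
  let σ : G ⊗ G ≅ G ⊗ G :=
    { hom := lift (fst G G) g
      inv := lift (fst G G) (fst G G * snd G G)
      hom_inv_id := by
        apply CartesianMonoidalCategory.hom_ext
        · simp
        · simp [g, MonObj.comp_mul]
      inv_hom_id := by
        apply CartesianMonoidalCategory.hom_ext
        · simp
        · simp [g, MonObj.comp_mul, GrpObj.comp_inv] }
  let Δ : G ⟶ G ⊗ G := lift (𝟙 G) (𝟙 G)
  let p₁ : (G ⊗ G).left ⟶ G.left := (fst G G).left
  have h₁ : IsPullback (snd G G).left p₁ G.hom G.hom :=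
    (IsPullback.of_hasPullback G.hom G.hom).flip
  haveI : IsIso σ.hom.left := ((Over.forget _).mapIso σ).isIso_hom
  have h₂ : IsPullback g.left p₁ G.hom G.hom := by
    refine IsPullback.of_iso h₁ ((Over.forget _).mapIso σ).symm (Iso.refl _) (Iso.refl _) (Iso.refl _) ?_ ?_ ?_ ?_
    · show (snd G G).left ≫ 𝟙 _ = σ.inv.left ≫ g.left
      rw [Category.comp_id, ← Over.comp_left]
      congr 1
      simp [σ, g, MonObj.comp_mul, GrpObj.comp_inv]
    · show (fst G G).left ≫ 𝟙 _ = σ.inv.left ≫ (fst G G).left
      rw [Category.comp_id, ← Over.comp_left]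
      exact congrArg CommaMorphism.left (show fst G G = σ.inv ≫ fst G G by simp [σ])
    · simp
    · simp
  haveI : QuasiSeparated p₁ := MorphismProperty.of_isPullback (P := @QuasiSeparated) h₁ inferInstance
  obtain ⟨c₁⟩ := nonempty_omega_baseChange G.hom G.hom _ p₁ h₁
  obtain ⟨c₂⟩ := nonempty_omega_baseChange G.hom G.hom _ p₁ h₂
  have e₁ : Δ.left ≫ (snd G G).left = 𝟙 _ := by
    rw [← Over.comp_left, show Δ ≫ snd G G = 𝟙 G from lift_snd _ _]; rfl
  have e₂ : Δ.left ≫ g.left = G.hom ≫ η[G].left := by
    rw [← Over.comp_left, show Δ ≫ g = toUnit G ≫ η[G] by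
      simp [Δ, g, MonObj.comp_mul, GrpObj.comp_inv, MonObj.one_eq_one]]
    rw [Over.comp_left]
    congr 1
  obtain ⟨ec⟩ := nonempty_conormal_iso G.hom η[G].left (Over.w η[G])
  exact ⟨((Scheme.Modules.pullbackId _).app _).symm ≪≫ (pullComposeIso _ _ _ e₁ _).symm ≪≫
    (Scheme.Modules.pullback Δ.left).mapIso (c₁ ≪≫ c₂.symm) ≪≫ pullComposeIso _ _ _ e₂ _ ≪≫
    (pullComposeIso G.hom η[G].left _ rfl _).symm ≪≫ (Scheme.Modules.pullback G.hom).mapIso ec.symm⟩

/-- A quasi-coherent module over a field is free. -/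
theorem exists_free_of_field {K : Type u} [Field K] (M : (Spec (CommRingCat.of K)).Modules)
    (hM : M.IsQuasicoherent) :
    ∃ I : Type u, Nonempty (M ≅ ∐ fun _ : I => Coh.structureModule (Spec (CommRingCat.of K))) := by
  haveI := hM
  let N : ModuleCat.{u} (CommRingCat.of K) := (moduleSpecΓFunctor (R := CommRingCat.of K)).obj M
  let b := Module.Free.chooseBasis K N
  let β : N ≅ ModuleCat.of (CommRingCat.of K) (Module.Free.ChooseBasisIndex K N →₀ K) := b.repr.toModuleIso
  let a : M ≅ tilde N := (@asIso _ _ _ _ (Scheme.Modules.fromTildeΓ (R := CommRingCat.of K) M)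
    ((isQuasicoherent_iff_isIso_fromTildeΓ (R := CommRingCat.of K) M).1 hM)).symm
  exact ⟨Module.Free.ChooseBasisIndex K N, ⟨a ≪≫ (tilde.functor _).mapIso β ≪≫ tildeFinsupp _⟩⟩

/-- Over a field the differentials of a group scheme are free. -/
theorem exists_omega_free (K : Type u) [Field K] (α : S ≅ Spec (CommRingCat.of K)) :
    ∃ I : Type u, Nonempty (Omega.sheaf G.hom ≅ ∐ fun _ : I => Coh.structureModule G.left) := by
  obtain ⟨e⟩ := nonempty_omega_iso G
  let C := Omega.conormal η[G].left
  have hC : Coh.IsQCoh C :=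
    Groth.Agent.H29Fitt.isQCoh_pullback _ _ (Groth.Agent.H17.OmegaLocal.isQuasicoherent_idealMod _)
  obtain ⟨I, ⟨eI⟩⟩ := exists_free_of_field ((Scheme.Modules.pullback α.inv).obj C)
    (Groth.Agent.H29Fitt.isQCoh_pullback _ _ hC)
  exact ⟨I, ⟨e ≪≫ (pullComposeIso (G.hom ≫ α.hom) α.inv G.hom (by simp) C).symm ≪≫
    (Scheme.Modules.pullback (G.hom ≫ α.hom)).mapIso eI ≪≫
    PreservesCoproduct.iso (Scheme.Modules.pullback (G.hom ≫ α.hom)) _ ≪≫
    Sigma.mapIso fun _ => Groth.Agent.H16Derived.KFlat.Stalk.structurePullbackIso _⟩⟩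

end Groth.Agent.H19AbSch.OmegaGrp
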