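import Groth.Agent.H25AbCube.Formula
import Groth.Agent.H12Pic.Cube.RelSlices

/-!
# The theorem of the cube for abelian schemes
-/

set_option autoImplicit false
set_option maxHeartbeats 1000000
set_option synthInstance.maxHeartbeats 100000
set_option linter.style.haveILetI false
set_option backward.isDefEq.respectTransparency false

universe u

open CategoryTheory CategoryTheory.Limits MonoidalCategory CartesianMonoidalCategory MonObj GrpObj AlgebraicGeometry
open Groth.Agent Groth.Agent.H25AbCube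

noncomputable section

namespace Groth.Agent.H19AbSch

section triv

open Groth.Agent.H12Pic Groth.Agent.H12Pic.Cube Groth.Agent.LeadBC.GenBC

variable {S X Y Z : Scheme.{u}} {pX : X ⟶ S} {pY : Y ⟶ S} {pZ : Z ⟶ S} [Flat pX] [IsProper pX]
  [LocallyOfFinitePresentation pX] [GeometricallyIntegral pX] [Flat pY] [IsProper pY]
  [LocallyOfFinitePresentation pY] [GeometricallyIntegral pY] {L : (T₃ pX pY pZ).Modules}

/-- A line bundle with the data of the relative cube which is trivial on every fibre is trivial. -/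
theorem triv_of_forall (D : RelData pX pY pZ L) (hall : ∀ z : Z, Triv ((q₃ pX pY pZ).fiberι z) L) :
    Nonempty (L ≅ Coh.structureModule (T₃ pX pY pZ)) := by
  obtain ⟨hF, hP, hfp, hG⟩ := instances_q₃ (pX := pX) (pY := pY) (pZ := pZ)
  haveI := hF
  haveI := hP
  haveI := hfp
  haveI := hG
  let f := q₃ pX pY pZ
  have hK := fun s => isIso_appTop_fiber_of_geomIntegral f s
  let W : Z.Opens := ⊤
  have hsq : IsPullback (f ⁻¹ᵁ W).ι (f ∣_ W) f W.ι := (isPullback_morphismRestrict f W).flip
  haveI : IsProper (f ∣_ W) := MorphismProperty.of_isPullback hsq hP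
  haveI : Flat (f ∣_ W) := MorphismProperty.of_isPullback hsq hF
  haveI : LocallyOfFinitePresentation (f ∣_ W) := MorphismProperty.of_isPullback hsq hfp
  let LW := (Scheme.Modules.pullback (f ⁻¹ᵁ W).ι).obj L
  have hbij : ∀ U, Function.Bijective ((f ∣_ W).app U) := fun U =>
    haveI := isIso_app_of_fibres (f ∣_ W) (isIso_appTop_fibre_baseChange f hsq hK) U
    ConcreteCategory.bijective_of_isIso ((f ∣_ W).app U)
  obtain ⟨N, hN, ⟨φ⟩⟩ := H28Pinch.exists_invertible_of_locally_trivial (f ∣_ W) hbij LW fun t => by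
    obtain ⟨W', -, htW', -, hgen⟩ := exists_genOn_nhd D (hall (W.ι t))
    obtain ⟨U, hU, htU, hUle⟩ := exists_isAffineOpen_mem_and_subset (U := W.ι ⁻¹ᵁ W') (x := t) htW'
    obtain ⟨U', m, htU', hm⟩ := hgen hsq hU hUle t htU
    obtain ⟨ψ⟩ := H11Tilde.nonempty_iso_structureModule LW _ m fun V' hV' => hm.bijective hV'
    exact ⟨U', htU', ⟨((Scheme.Modules.restrictFunctorIsoPullback _).app LW).symm ≪≫ ψ⟩⟩
  let σ : Z ⟶ T₃ pX pY pZ := pullback.lift (pullback.lift (pZ ≫ D.x) (pZ ≫ D.y) (by
    rw [Category.assoc, Category.assoc, D.hx, D.hy])) (𝟙 Z) (by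
      refine (Category.assoc _ _ _).symm.trans ((congrArg (· ≫ pX) (pullback.lift_fst _ _ _)).trans ?_)
      rw [Category.assoc, D.hx]; simp)
  have hσq : σ ≫ f = 𝟙 Z := pullback.lift_snd _ _ _
  let s : W.toScheme ⟶ (f ⁻¹ᵁ W).toScheme := hsq.lift (W.ι ≫ σ) (𝟙 _) (by rw [Category.assoc, hσq]; simp)
  have hσx : σ ≫ pullback.fst _ _ ≫ pullback.fst pX pY = pZ ≫ D.x :=
    (Category.assoc _ _ _).symm.trans ((congrArg (· ≫ pullback.fst pX pY) (pullback.lift_fst _ _ _)).trans
      (pullback.lift_fst _ _ _))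
  have ts : Triv (s ≫ (f ⁻¹ᵁ W).ι) L := by
    refine D.triv_x _ ?_
    rw [hsq.lift_fst]
    simp only [Category.assoc]
    rw [hσx, reassoc_of% hσq]
  have eN : N ≅ Coh.structureModule W.toScheme :=
    ((Scheme.Modules.pullbackId _).app N).symm ≪≫
      (Scheme.Modules.pullbackCongr (hsq.lift_snd (W.ι ≫ σ) (𝟙 _) _).symm).app N ≪≫
      ((Scheme.Modules.pullbackComp s (f ∣_ W)).app N).symm ≪≫
      (Scheme.Modules.pullback s).mapIso φ.symm ≪≫
      (Scheme.Modules.pullbackComp s (f ⁻¹ᵁ W).ι).app L ≪≫ ts.some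
  have hT : Triv (f ⁻¹ᵁ W).ι L :=
    ⟨φ ≪≫ (Scheme.Modules.pullback _).mapIso eN ≪≫ PicLoc.pullbackStructureIso _⟩
  obtain ⟨ψ⟩ := hT.comp' (T₃ pX pY pZ).topIso.inv (T₃ pX pY pZ).topIso.inv_hom_id
  exact ⟨((Scheme.Modules.pullbackId _).app L).symm ≪≫ ψ⟩

end triv

theorem triv_of_pc {P T : Scheme.{u}} (f : P ⟶ T) (L : T.Modules) (hL : PicF.IsInvertible L)
    (h : pullP f (pc L hL) = 0) : H12Pic.Cube.Triv f L := by
  rw [← pullP_pc f L hL (H11Ample.isInvertible_pullback f hL), ← pc_one, pc_eq_iff] at h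
  exact h

variable {S : Scheme.{u}} {X : Over S} [GrpObj X]

/-- The alternating class of three points. -/
def theta (L : PC X.left) {T : Over S} (a b c : T ⟶ X) : PC T.left :=
  pullP (a * b * c).left L + pullP a.left L + pullP b.left L + pullP c.left L -
    (pullP (a * b).left L + pullP (a * c).left L + pullP (b * c).left L + pullP (1 : T ⟶ X).left L)

theorem pullP_theta (L : PC X.left) {T T' : Over S} (g : T' ⟶ T) (a b c : T ⟶ X) :
    pullP g.left (theta L a b c) = theta L (g ≫ a) (g ≫ b) (g ≫ c) := by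
  simp only [theta, map_add, map_sub, pullP_pullP, ← Over.comp_left, MonObj.comp_mul, MonObj.comp_one]

theorem theta_one_left (L : PC X.left) {T : Over S} (b c : T ⟶ X) : theta L 1 b c = 0 := by
  simp only [theta, _root_.one_mul]; abel

theorem theta_one_mid (L : PC X.left) {T : Over S} (a c : T ⟶ X) : theta L a 1 c = 0 := by
  simp only [theta, _root_.one_mul, _root_.mul_one]; abel

/-- Over a field the alternating class vanishes. -/
theorem theta_eq_zero_of_field [IsProper X.hom] [GeometricallyIntegral X.hom] (L : PC X.left)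
    {K : Type u} [Field K] (σ : Spec (CommRingCat.of K) ⟶ S) (T : Over (Spec (CommRingCat.of K)))
    (a b c : (Over.map σ).obj T ⟶ X) : theta L a b c = 0 := by
  let F := Over.pullback σ
  let A := F.obj X
  letI : GrpObj A := Functor.grpObjObj
  haveI : IsProper A.hom := inferInstanceAs (IsProper (pullback.snd X.hom σ))
  haveI : GeometricallyIntegral A.hom := inferInstanceAs (GeometricallyIntegral (pullback.snd X.hom σ))
  let L' : PC A.left := pullP (pullback.fst X.hom σ) L
  let e := (Over.mapPullbackAdj σ).homEquiv T X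
  have hmul : ∀ x y, e (x * y) = e x * e y := fun x y => by
    simp only [e, Adjunction.homEquiv_unit]
    exact (congrArg _ (map_mul (Functor.homMonoidHom F) _ _)).trans (MonObj.comp_mul _ _ _)
  have hone : e 1 = 1 := by
    simp only [e, Adjunction.homEquiv_unit]
    exact (congrArg _ (map_one (Functor.homMonoidHom F))).trans (MonObj.comp_one _)
  have hL : ∀ x, pullP x.left L = ev L' (e x) := fun x => by
    show _ = pullP (e x).left (pullP _ L)
    rw [pullP_pullP]
    congr 2
    simp [e, Adjunction.homEquiv_unit]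
    exact (Category.id_comp _).symm
  simp only [theta, hL, hmul, hone]
  rw [three L' (e a) (e b) (e c), ev_one]
  abel_nf
  exact sub_self _

variable [IsProper X.hom] [Flat X.hom] [LocallyOfFinitePresentation X.hom] [GeometricallyIntegral X.hom]

/-- The theorem of the cube for abelian schemes. -/
theorem theta_eq_zero (L : PC X.left) {T : Over S} (a b c : T ⟶ X) : theta L a b c = 0 := by
  let P : Over S := (X ⊗ X) ⊗ X
  let x₁ : P ⟶ X := fst (X ⊗ X) X ≫ fst X X
  let x₂ : P ⟶ X := fst (X ⊗ X) X ≫ snd X X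
  let x₃ : P ⟶ X := snd (X ⊗ X) X
  suffices huniv : theta L x₁ x₂ x₃ = 0 by
    have h := pullP_theta L (lift (lift a b) c) x₁ x₂ x₃
    simp only [x₁, x₂, x₃, lift_fst_assoc, lift_fst, lift_snd] at h
    rw [← h, huniv, map_zero]
  obtain ⟨M, hM, eM⟩ := exists_rep (theta L x₁ x₂ x₃)
  have key : ∀ {D : Over S} (g : D ⟶ P), theta L (g ≫ x₁) (g ≫ x₂) (g ≫ x₃) = 0 →
      H12Pic.Cube.Triv g.left M := fun g h => triv_of_pc _ _ hM (by rw [eM, pullP_theta, h])
  rw [← eM, ← pc_one, pc_eq_iff]
  let D : H12Pic.Cube.RelData X.hom X.hom X.hom M :=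
    { hL := hM
      x := η[X].left
      hx := Over.w η[X]
      y := η[X].left
      hy := Over.w η[X]
      triv_x := fun {D} l hl => by
        let g : Over.mk (l ≫ P.hom) ⟶ P := Over.homMk l rfl
        have h1 : g ≫ x₁ = 1 := by
          rw [Hom.one_def]
          refine Over.OverMorphism.ext (hl.trans ?_)
          show (l ≫ H12Pic.Cube.q₃ X.hom X.hom X.hom ≫ X.hom) ≫ η[X].left = (l ≫ P.hom) ≫ η[X].left
          rw [show P.hom = pullback.fst _ _ ≫ (X ⊗ X).hom from rfl]
          exact congrArg (fun t => (l ≫ t) ≫ η[X].left) pullback.condition.symm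
        exact key g (by rw [h1, theta_one_left])
      triv_y := fun {D} l hl => by
        let g : Over.mk (l ≫ P.hom) ⟶ P := Over.homMk l rfl
        have h1 : g ≫ x₂ = 1 := by
          rw [Hom.one_def]
          refine Over.OverMorphism.ext (hl.trans ?_)
          show (l ≫ H12Pic.Cube.q₃ X.hom X.hom X.hom ≫ X.hom) ≫ η[X].left = (l ≫ P.hom) ≫ η[X].left
          rw [show P.hom = pullback.fst _ _ ≫ (X ⊗ X).hom from rfl]
          exact congrArg (fun t => (l ≫ t) ≫ η[X].left) pullback.condition.symm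
        exact key g (by rw [h1, theta_one_mid]) }
  refine triv_of_forall D fun z => ?_
  let q := H12Pic.Cube.q₃ X.hom X.hom X.hom
  let σ : Spec (X.left.residueField z) ⟶ S := X.left.fromSpecResidueField z ≫ X.hom
  let g : (Over.map σ).obj (Over.mk (q.fiberToSpecResidueField z)) ⟶ P := Over.homMk (q.fiberι z) (by
    show q.fiberι z ≫ pullback.fst _ _ ≫ (X ⊗ X).hom = q.fiberToSpecResidueField z ≫ σ
    exact (congrArg (q.fiberι z ≫ ·) pullback.condition).trans
      (pullback.condition_assoc (f := q) (g := X.left.fromSpecResidueField z) X.hom))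
  exact key g (theta_eq_zero_of_field L σ (Over.mk (q.fiberToSpecResidueField z)) _ _ _)

end Groth.Agent.H19AbSch
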