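import Groth.Agent.H25Index.EulerIsogeny
import Groth.Agent.H27KZero.AmpleRes
import Groth.Agent.H22Alg.PB.Push
import Groth.Agent.H10Coh.AffineLeray
import Groth.Agent.H17.ConsModModels

/-!
# Projection formula for finite morphisms and the Euler characteristic along isogenies
-/

set_option autoImplicit false
set_option linter.style.haveILetI false
set_option linter.unusedSectionVars false
set_option backward.isDefEq.respectTransparency false
set_option maxHeartbeats 1000000
universe u

open CategoryTheory CategoryTheory.Limits MonoidalCategory CartesianMonoidalCategory AlgebraicGeometry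
  TopologicalSpace Opposite MonObj GrpObj
open Groth.Agent

attribute [local instance] HasDerivedCategory.standard
attribute [local instance 10000] H10Coh.hasSheafifyAb H10Coh.hasWeakSheafifyAb H10Coh.hasExtAb H10Coh.enoughInjAb

noncomputable section

namespace Groth.Agent.H19AbSch.EulerPull

open H16Derived H16Derived.ProjFormula

variable {X Y : Scheme.{u}} (f : X ⟶ Y)

/-- Direct images along affine morphisms respect epimorphisms of coherent modules. -/
theorem epi_push [IsLocallyNoetherian X] [IsAffineHom f] {M N : X.Modules} (p : M ⟶ N) [Epi p]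
    (hM : Coh.IsCoh M) (hN : Coh.IsCoh N) : Epi ((Scheme.Modules.pushforward f).map p) := by
  have hS : (ShortComplex.mk (kernel.ι p) p (kernel.condition p)).ShortExact :=
    { exact := ShortComplex.exact_kernel p }
  haveI : (kernel p).IsQuasicoherent := (H10Coh.isCoh_kernel p hM hN.1).1
  exact (H22Alg.PB.shortExact_push (π := f) hS (H10Coh.isZero_rpushAb_of_isAffineHom f (kernel p) 0)).epi_g

/-- Direct images along affine morphisms respect right exact sequences of coherent modules. -/
theorem exact_push [IsLocallyNoetherian X] [IsAffineHom f] (S : ShortComplex X.Modules) (hS : S.Exact) [Epi S.g]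
    (h₁ : Coh.IsCoh S.X₁) (h₂ : Coh.IsCoh S.X₂) (h₃ : Coh.IsCoh S.X₃) :
    (S.map (Scheme.Modules.pushforward f)).Exact ∧ Epi (S.map (Scheme.Modules.pushforward f)).g := by
  let P := Scheme.Modules.pushforward f
  have hK := H10Coh.isCoh_kernel S.g h₂ h₃.1
  haveI : Epi (kernel.lift S.g S.f S.zero) := hS.epi_kernelLift
  haveI : Epi (P.map (kernel.lift S.g S.f S.zero)) := epi_push f _ h₁ hK
  haveI : P.IsRightAdjoint := (Scheme.Modules.pullbackPushforwardAdjunction f).isRightAdjoint
  refine ⟨?_, epi_push f S.g h₂ h₃⟩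
  rw [ShortComplex.exact_iff_epi_kernel_lift]
  have h : P.map (kernel.lift S.g S.f S.zero) ≫ (PreservesKernel.iso P S.g).hom =
      kernel.lift (S.map P).g (S.map P).f (S.map P).zero := by
    refine (cancel_mono (kernel.ι _)).1 ?_
    erw [Category.assoc, PreservesKernel.iso_hom, kernelComparison_comp_ι, ← P.map_comp, kernel.lift_ι,
      kernel.lift_ι]
    rfl
  rw [← h]
  exact epi_comp _ _

/-- `N ↦ f_* O ⊗ N`. -/
abbrev T₁ : Y.Modules ⥤ Y.Modules :=
  (DCoh.tensorBi (X := Y)).obj ((push f).obj (Coh.structureModule X))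

/-- `N ↦ f_* (O ⊗ f^* N)`. -/
abbrev T₂ : Y.Modules ⥤ Y.Modules :=
  pull f ⋙ (DCoh.tensorBi (X := X)).obj (Coh.structureModule X) ⋙ push f

theorem isCoh_T₂_inner [IsNoetherian X] [IsNoetherian Y] {F : Y.Modules} (hF : Coh.IsCoh F) :
    Coh.IsCoh (((DCoh.tensorBi (X := X)).obj (Coh.structureModule X)).obj ((pull f).obj F)) := by
  have h1 : Coh.IsCoh ((pull f).obj F) := H17.ConsProp.isCoh_pullback f hF
  have h2 := H10Coh.TT.isCoh_tensorMod
    (H11Ample.isCoh_of_isInvertible (H11Ample.isInvertible_structureModule (X := X))) h1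
  exact h2

/-- The projection formula for a finite morphism and a coherent module. -/
theorem isIso_ψ_of_isCoh [IsNoetherian X] [IsNoetherian Y] [IsAffineHom f] {L : Y.Modules}
    (hL : CohB1.IsAmple L) {F : Y.Modules} (hF : Coh.IsCoh F) :
    IsIso (ψ f (Coh.structureModule X) F) := by
  have hepi : ∀ G : Y.Modules, Coh.IsCoh G → Epi (ψ f (Coh.structureModule X) G) := by
    intro G hG
    obtain ⟨E, hE, hEc, q, hq⟩ : ∃ (E : Y.Modules), FlatMod.IsFinLocFree E ∧ Coh.IsCoh E ∧
        ∃ q : E ⟶ G, Epi q := by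
      obtain ⟨E, q, hE, hq⟩ := H27KZero.exists_epi_finLocFree hL G hG
      exact ⟨E, hE, H16Derived.KFlat.Stalk.isCoh_of_isFinLocFree hE, q, hq⟩
    haveI := hq
    haveI := H10Coh.PF.isIso_ψ_of_isFinLocFree f hE (Coh.structureModule X)
    haveI : Epi (((DCoh.tensorBi (X := X)).obj (Coh.structureModule X)).map ((pull f).map q)) := by
      haveI : (pull f).IsLeftAdjoint := (Scheme.Modules.pullbackPushforwardAdjunction f).isLeftAdjoint
      haveI : PreservesColimitsOfSize.{0, 0} ((DCoh.tensorBi (X := X)).obj (Coh.structureModule X)) :=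
        preservesColimitsOfSize_shrink.{0, u, 0, u} _
      infer_instance
    haveI : Epi ((push f).map (((DCoh.tensorBi (X := X)).obj (Coh.structureModule X)).map ((pull f).map q))) :=
      epi_push f _ (isCoh_T₂_inner f hEc) (isCoh_T₂_inner f hG)
    exact epi_of_epi_fac (ψ_naturality f (Coh.structureModule X) q)
  obtain ⟨E, q, hE, hq⟩ := H27KZero.exists_epi_finLocFree hL F hF
  haveI := hq
  have hEc := H16Derived.KFlat.Stalk.isCoh_of_isFinLocFree hE
  haveI := H10Coh.PF.isIso_ψ_of_isFinLocFree f hE (Coh.structureModule X)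
  have hKc := H10Coh.isCoh_kernel q hEc hF.1
  haveI := hepi _ hKc
  haveI := hepi _ hF
  let S : ShortComplex Y.Modules := ShortComplex.mk (kernel.ι q) q (kernel.condition q)
  have hS : S.Exact := ShortComplex.exact_kernel q
  haveI : Epi S.g := hq
  haveI : (pull f).IsLeftAdjoint := (Scheme.Modules.pullbackPushforwardAdjunction f).isLeftAdjoint
  haveI : PreservesColimitsOfSize.{0, 0} ((DCoh.tensorBi (X := X)).obj (Coh.structureModule X)) :=
    preservesColimitsOfSize_shrink.{0, u, 0, u} _
  let G := pull f ⋙ (DCoh.tensorBi (X := X)).obj (Coh.structureModule X)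
  have hG : (S.map G).Exact := hS.map_of_epi_of_preservesCokernel G hq inferInstance
  haveI : Epi (S.map G).g := inferInstanceAs (Epi (G.map q))
  obtain ⟨hex, hep⟩ := exact_push f (S.map G) hG (isCoh_T₂_inner f hKc) (isCoh_T₂_inner f hEc)
    (isCoh_T₂_inner f hF)
  haveI := hep
  let a := inv (ψ f (Coh.structureModule X) E) ≫ (T₁ f).map q
  have ha : ((S.map G).map (push f)).f ≫ a = 0 := by
    rw [← cancel_epi (ψ f (Coh.structureModule X) (kernel q)), comp_zero, ← Category.assoc]
    change (ψ f (Coh.structureModule X) (kernel q) ≫ (T₂ f).map (kernel.ι q)) ≫ a = 0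
    have h := ψ_naturality f (Coh.structureModule X) (kernel.ι q)
    change (T₁ f).map (kernel.ι q) ≫ ψ f (Coh.structureModule X) E = _ ≫ (T₂ f).map (kernel.ι q) at h
    rw [← h]
    simp only [a, Category.assoc, IsIso.hom_inv_id_assoc]
    rw [← Functor.map_comp, kernel.condition, Functor.map_zero]
  let inv' : (T₂ f).obj F ⟶ (T₁ f).obj F := hex.desc a ha
  have hinv : (T₂ f).map q ≫ inv' = a := hex.g_desc a ha
  haveI : PreservesColimitsOfSize.{0, 0} (T₁ f) := preservesColimitsOfSize_shrink.{0, u, 0, u} _
  refine ⟨inv', ?_, ?_⟩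
  · haveI : Epi ((T₁ f).map q) := inferInstance
    rw [← cancel_epi ((T₁ f).map q), Category.comp_id]
    have h := ψ_naturality f (Coh.structureModule X) q
    change (T₁ f).map q ≫ ψ f (Coh.structureModule X) F = _ ≫ (T₂ f).map q at h
    rw [← Category.assoc, h, Category.assoc, hinv, IsIso.hom_inv_id_assoc]
  · haveI : Epi ((T₂ f).map q) := hep
    refine (cancel_epi ((T₂ f).map q)).1 ?_
    refine Eq.trans ?_ (Category.comp_id _).symm
    refine (Category.assoc _ _ _).symm.trans ((congrArg (· ≫ _) hinv).trans ?_)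
    have h := ψ_naturality f (Coh.structureModule X) q
    change (T₁ f).map q ≫ ψ f (Coh.structureModule X) F = _ ≫ (T₂ f).map q at h
    simp only [a, Category.assoc]
    rw [h, IsIso.inv_hom_id_assoc]

variable {k : Type u} [Field k] {A B : Over (Spec (CommRingCat.of k))} [GrpObj A] [GrpObj B]

/-- The Euler characteristic of the inverse image of a coherent module along an isogeny. -/
theorem euler_pullback [IsProper A.hom] [IsProper B.hom] {H : B.left.Modules} (hH : CohB1.IsAmple H)
    (g : ℕ) (hg : topologicalKrullDim B.left ≤ g) (f : A ⟶ B)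
    [IsMonHom f] [IsFinite f.left] [Flat f.left] (d : ℕ) (hd0 : d ≠ 0) (hd : ∀ y, f.left.finrank y = d)
    (F : B.left.Modules) (hF : Coh.IsCoh F) :
    @Curv2.euler k _ A.left ⟨A.hom⟩ ((Scheme.Modules.pullback f.left).obj F) =
      d * @Curv2.euler k _ B.left ⟨B.hom⟩ F := by
  letI : A.left.Over (Spec (CommRingCat.of k)) := ⟨A.hom⟩
  letI : B.left.Over (Spec (CommRingCat.of k)) := ⟨B.hom⟩
  haveI : IsProper (B.left ↘ Spec (CommRingCat.of k)) := ‹IsProper B.hom›
  haveI : IsLocallyNoetherian B.left := LocallyOfFiniteType.isLocallyNoetherian B.hom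
  haveI : IsLocallyNoetherian A.left := LocallyOfFiniteType.isLocallyNoetherian A.hom
  haveI : CompactSpace B.left := QuasiCompact.compactSpace_of_compactSpace B.hom
  haveI : CompactSpace A.left := QuasiCompact.compactSpace_of_compactSpace A.hom
  haveI : IsNoetherian A.left := ⟨⟩
  haveI : IsNoetherian B.left := ⟨⟩
  let E := (Coh.push f.left).obj (Coh.structureModule A.left)
  obtain ⟨r, ⟨ψ⟩, hr⟩ := H25Index.exists_tensor_push_self f
  haveI : Nonempty B.left := ⟨(1 : 𝟙_ (Over (Spec (CommRingCat.of k))) ⟶ B).left (IsLocalRing.closedPoint k)⟩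
  obtain rfl : r = d := (hr (Classical.arbitrary _) (by rw [hd]; exact hd0)).symm.trans (hd _)
  have h := H25Index.euler_tensor_of_square (k := k) hH E (H29Disc.isFinLocFree_pushO f.left) r hd0
    (fun x => (H25Index.finrank_stalk_push f.left x).trans (hd x)) ψ g hg F hF
  rw [← h]
  haveI := isIso_ψ_of_isCoh f.left hH hF
  haveI : (CohB1.tensorMod (Coh.structureModule A.left) ((Scheme.Modules.pullback f.left).obj F)).IsQuasicoherent :=
    (isCoh_T₂_inner f.left hF).1
  refine Eq.trans ?_ (H25Euler.euler_congr (H10Coh.Tw.commIso F E ≪≫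
    asIso (H16Derived.ProjFormula.ψ f.left (Coh.structureModule A.left) F))).symm
  refine Eq.trans ?_ (H28Int.Push.euler_push k f.left (Over.w f)
    (CohB1.tensorMod (Coh.structureModule A.left) ((Scheme.Modules.pullback f.left).obj F))).symm
  exact H25Euler.euler_congr (H10Coh.Tw.leftUnitIso _).symm

/-- The inverse image along an isomorphism is the direct image along its inverse. -/
def pullbackIsoPushInv (e : X ≅ Y) :
    Scheme.Modules.pullback e.hom ≅ Scheme.Modules.pushforward e.inv :=
  let α : Scheme.Modules.pushforward e.hom ⋙ Scheme.Modules.pushforward e.inv ≅ 𝟭 _ :=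
    Scheme.Modules.pushforwardComp _ _ ≪≫ Scheme.Modules.pushforwardCongr e.hom_inv_id ≪≫
      Scheme.Modules.pushforwardId _
  let β : Scheme.Modules.pushforward e.inv ⋙ Scheme.Modules.pushforward e.hom ≅ 𝟭 _ :=
    Scheme.Modules.pushforwardComp _ _ ≪≫ Scheme.Modules.pushforwardCongr e.inv_hom_id ≪≫
      Scheme.Modules.pushforwardId _
  let E : Y.Modules ≌ X.Modules :=
    CategoryTheory.Equivalence.mk (Scheme.Modules.pushforward e.inv) (Scheme.Modules.pushforward e.hom) β.symm α
  (Scheme.Modules.pullbackPushforwardAdjunction e.hom).leftAdjointUniq E.toAdjunction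

/-- The Euler characteristic is invariant under isomorphisms of the space. -/
theorem euler_pullback_iso [X.Over (Spec (CommRingCat.of k))] [Y.Over (Spec (CommRingCat.of k))] (e : X ≅ Y)
    (he : e.hom ≫ (Y ↘ Spec (CommRingCat.of k)) = X ↘ Spec (CommRingCat.of k))
    (F : Y.Modules) [F.IsQuasicoherent] :
    Curv2.euler k X ((Scheme.Modules.pullback e.hom).obj F) = Curv2.euler k Y F :=
  (H25Euler.euler_congr ((pullbackIsoPushInv e).app F)).trans
    (H28Int.Push.euler_push k e.inv (by rw [← he, e.inv_hom_id_assoc]) F)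

end Groth.Agent.H19AbSch.EulerPull
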