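import Groth.Agent.H19AbSch.Cube

/-!
# Pullback of a class by multiplication by an integer on an abelian scheme
-/

set_option autoImplicit false
set_option maxHeartbeats 1000000
set_option linter.style.haveILetI false
set_option backward.isDefEq.respectTransparency false

universe u

open CategoryTheory CategoryTheory.Limits MonoidalCategory CartesianMonoidalCategory MonObj GrpObj AlgebraicGeometry
open Groth.Agent Groth.Agent.H25AbCube

noncomputable section

namespace Groth.Agent.H19AbSch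

variable {S : Scheme.{u}} {X : Over S} [GrpObj X] [IsProper X.hom] [Flat X.hom]
  [LocallyOfFinitePresentation X.hom] [GeometricallyIntegral X.hom]

/-- The formula for the pullback of a class by multiplication by an integer. -/
theorem pullP_zpow (L : PC X.left) (n : ℤ) :
    pullP ((𝟙 X) ^ n : X ⟶ X).left L = ((n ^ 2 + n) / 2) • L +
      ((n ^ 2 - n) / 2) • pullP ((𝟙 X)⁻¹ : X ⟶ X).left L + (1 - n ^ 2) • pullP (1 : X ⟶ X).left L := by
  let P : ℤ → PC X.left := fun m => pullP ((𝟙 X) ^ m : X ⟶ X).left L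
  let Q : ℤ → PC X.left := fun m => ((m ^ 2 + m) / 2) • L +
      ((m ^ 2 - m) / 2) • pullP ((𝟙 X)⁻¹ : X ⟶ X).left L + (1 - m ^ 2) • pullP (1 : X ⟶ X).left L
  have hhalf : ∀ m : ℤ, 2 * ((m ^ 2 + m) / 2) = m ^ 2 + m ∧ 2 * ((m ^ 2 - m) / 2) = m ^ 2 - m := fun m => by
    have h1 : (2 : ℤ) ∣ m ^ 2 + m := by
      rw [show m ^ 2 + m = m * (m + 1) by ring]; exact (Int.even_mul_succ_self m).two_dvd
    have h2 : (2 : ℤ) ∣ m ^ 2 - m := by
      rw [show m ^ 2 - m = (m ^ 2 + m) - 2 * m by ring]; exact dvd_sub h1 (dvd_mul_right 2 m)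
    exact ⟨Int.mul_ediv_cancel' h1, Int.mul_ediv_cancel' h2⟩
  have h1 : ((𝟙 X) ^ (1 : ℤ) : X ⟶ X).left = 𝟙 X.left := by rw [zpow_one, Over.id_left]
  have hP : ∀ m : ℤ, P (m + 2) + P m + (P 0 + P 0) = P (m + 1) + P (m + 1) + (L + pullP ((𝟙 X)⁻¹ : X ⟶ X).left L) := by
    intro m
    have h := theta_eq_zero L ((𝟙 X) ^ (m + 1)) ((𝟙 X) ^ (1 : ℤ)) ((𝟙 X) ^ (-1 : ℤ))
    rw [theta, ← zpow_add, ← zpow_add, ← zpow_add, ← zpow_add, show m + 1 + 1 + -1 = m + 1 by ring,
      show m + 1 + 1 = m + 2 by ring, show m + 1 + -1 = m by ring, show (1 : ℤ) + -1 = 0 by ring, h1, pullP_id,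
      zpow_neg_one, zpow_zero] at h
    simp only [P, zpow_zero]
    linear_combination (norm := abel) -h
  have hQ : ∀ m : ℤ, Q (m + 2) + Q m + (P 0 + P 0) = Q (m + 1) + Q (m + 1) + (L + pullP ((𝟙 X)⁻¹ : X ⟶ X).left L) := by
    intro m
    have a0 := hhalf m
    have a1 := hhalf (m + 1)
    have a2 := hhalf (m + 2)
    simp only [Q, P, zpow_zero]
    match_scalars <;> linarith [a0.1, a1.1, a2.1, a0.2, a1.2, a2.2]
  have h00 : P 0 = Q 0 := by simp [P, Q]
  have h11 : P 1 = Q 1 := by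
    simp only [P, Q, h1, pullP_id]
    norm_num
  suffices h : ∀ m : ℤ, P m = Q m ∧ P (m + 1) = Q (m + 1) from (h n).1
  intro m
  induction m using Int.induction_on with
  | zero => exact ⟨h00, by simpa using h11⟩
  | succ i ih =>
    refine ⟨ih.2, ?_⟩
    have h := hP i
    rw [ih.1, ih.2, ← hQ i] at h
    simpa [add_assoc] using h
  | pred i ih =>
    refine ⟨?_, by simpa using ih.1⟩
    have h := hP (-(i : ℤ) - 1)
    have h' := hQ (-(i : ℤ) - 1)
    rw [show -(i : ℤ) - 1 + 2 = -(i : ℤ) + 1 by ring, show -(i : ℤ) - 1 + 1 = -(i : ℤ) by ring] at h h'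
    rw [ih.1, ih.2, ← h'] at h
    simpa using h

end Groth.Agent.H19AbSch
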