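import Groth.Agent.H25Index.EulerIsogeny
import Groth.Agent.H25Index.Multiples
import Groth.Agent.H25Index.BaseChange
import Groth.Agent.H25AbCube.GeomTate
import Groth.Agent.H25Misc.AltSum
import Groth.Agent.H28Int.Core

/-!
# Homogeneity of the Euler characteristic on an abelian variety
-/

set_option autoImplicit false
set_option linter.style.haveILetI false
set_option linter.unusedSectionVars false
set_option backward.isDefEq.respectTransparency false
set_option synthInstance.maxHeartbeats 400000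
set_option maxHeartbeats 1000000
universe u

open CategoryTheory CategoryTheory.Limits MonoidalCategory CartesianMonoidalCategory MonObj GrpObj AlgebraicGeometry
  TopologicalSpace Opposite
open Groth.Agent Groth.Agent.H25AbCube Groth.Agent.H25Pic0 Groth.Agent.H25Index

noncomputable section

namespace Groth.Agent.H19AbSch.SelfInt

section AlgClosed

variable {k : Type u} [Field k] [IsAlgClosed k] {A : Over (Spec (CommRingCat.of k))} [GrpObj A] [IsProper A.hom]
  [GeometricallyIntegral A.hom]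

/-- The antisymmetric part of a class is additive. -/
theorem additive_inv_sub (ℓ : PC A.left) : Additive' (ev ℓ ((𝟙 A)⁻¹) - ℓ) := by
  haveI : IsCommMonObj A := isCommMonObj_of_av
  refine ev_mul_of_invariant _ (fun a => ?_) _ _
  have hphi : transl (ev ℓ ((𝟙 A)⁻¹)) a - ev ℓ ((𝟙 A)⁻¹) = transl ℓ a - ℓ := by
    have h1 : transl (ev ℓ ((𝟙 A)⁻¹)) a = ev (transl ℓ a⁻¹) ((𝟙 A)⁻¹) := by
      rw [transl, transl, ev_comp, ev_comp]
      simp only [MonObj.comp_mul, GrpObj.comp_inv, Category.comp_id, _root_.mul_inv]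
      rw [← Category.assoc, comp_toUnit]
    have h2 : transl ℓ a⁻¹ - ℓ = - (transl ℓ a - ℓ) := by
      rw [eq_neg_iff_add_eq_zero, ← phi_mul, inv_mul_cancel, transl, MonObj.comp_one, _root_.mul_one,
        show ev ℓ (𝟙 A) = ℓ from pullP_id _, sub_self]
    have h3 : ev (transl ℓ a - ℓ) ((𝟙 A)⁻¹) = - (transl ℓ a - ℓ) := by
      rw [ev_inv (phi_additive ℓ a), show ev (transl ℓ a - ℓ) (𝟙 A) = transl ℓ a - ℓ from pullP_id _]
    rw [h1]
    calc ev (transl ℓ a⁻¹) ((𝟙 A)⁻¹) - ev ℓ ((𝟙 A)⁻¹) = ev (transl ℓ a⁻¹ - ℓ) ((𝟙 A)⁻¹) := (map_sub _ _ _).symm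
      _ = - ev (transl ℓ a - ℓ) ((𝟙 A)⁻¹) := by rw [h2]; exact map_neg _ _
      _ = _ := by rw [h3, neg_neg]
  rw [transl, ev, map_sub]
  show transl _ a - transl ℓ a = _
  rw [sub_eq_sub_iff_sub_eq_sub.1 hphi]

/-- The Euler characteristic only depends on a class up to additive classes. -/
theorem chi_add_additive (u v : PC A.left) (hv : Additive' v) :
    @chiCls _ k _ ⟨A.hom⟩ (u + v) = @chiCls _ k _ ⟨A.hom⟩ u := by
  letI : A.left.Over (Spec (CommRingCat.of k)) := ⟨A.hom⟩
  haveI : IsProper (A.left ↘ Spec (CommRingCat.of k)) := ‹IsProper A.hom›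
  obtain ⟨M, hM, hMu⟩ := exists_rep u
  obtain ⟨P, hP, hPv⟩ := exists_rep v
  have hT := H11Ample.isInvertible_tensor hP hM
  rw [show u + v = pc _ hT by rw [pc_tensor hP hM, hMu, hPv, add_comm], chiCls_pc, ← hMu, chiCls_pc]
  exact H12Pic.AlgEquivEuler.euler_twist_of_algEquiv k
    (algEquivZero_of_additive P hP (by rw [hPv]; exact hv)) (H11Ample.isCoh_of_isInvertible hM)

/-- The Euler characteristic of square multiples. -/
theorem chi_sq (g : ℕ) (hg : topologicalKrullDim A.left = g) (ℓ : PC A.left) {n : ℕ} (hn : 0 < n) :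
    @chiCls _ k _ ⟨A.hom⟩ ((n * n) • ℓ) = (n : ℤ) ^ (2 * g) * @chiCls _ k _ ⟨A.hom⟩ ℓ := by
  letI : A.left.Over (Spec (CommRingCat.of k)) := ⟨A.hom⟩
  haveI : IsProper (A.left ↘ Spec (CommRingCat.of k)) := ‹IsProper A.hom›
  haveI : IsCommMonObj A := isCommMonObj_of_av
  obtain ⟨H, hH⟩ := exists_isAmple A
  obtain ⟨L, hL, hLc⟩ := exists_rep ℓ
  let φ : A ⟶ A := (𝟙 A) ^ n
  haveI := isMonHom_pow (A := A) n
  haveI : IsFinite φ.left := isFinite_pow hn
  haveI : Flat φ.left := flat_pow hn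
  have e1 := euler_pullback hH φ g hg.le (n ^ (2 * g)) (pow_ne_zero _ hn.ne') (finrank_pow hn g hg) L hL
  have hp := H11Ample.isInvertible_pullback φ.left hL
  rw [← chiCls_pc _ hp, ← chiCls_pc _ hL, pullP_pc _ L hL hp, hLc] at e1
  have hc : n + (n.choose 2 + n.choose 2) = n * n := by
    have h : n * (n - 1) / 2 * 2 = n * (n - 1) := Nat.div_mul_cancel (Nat.even_mul_pred_self n).two_dvd
    have h' : n * (n - 1) + n = n * n := by rw [← Nat.mul_succ, Nat.succ_eq_add_one, Nat.sub_add_cancel hn]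
    rw [Nat.choose_two_right]; omega
  have e2 : pullP φ.left ℓ = (n * n) • ℓ + n.choose 2 • (ev ℓ ((𝟙 A)⁻¹) - ℓ) := by
    show ev ℓ ((𝟙 A) ^ n) = _
    rw [H25AbCube.ev_pow ℓ n, smul_sub, ← hc, add_nsmul, add_nsmul, smul_add]
    abel
  rw [e2, chi_add_additive] at e1
  · exact_mod_cast e1
  · have hv := additive_inv_sub ℓ
    unfold Additive' at hv ⊢
    simp only [ev, map_nsmul] at hv ⊢
    rw [hv, smul_add]

/-- The Euler characteristic is homogeneous of degree the dimension. -/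
theorem chi_smul (g : ℕ) (hg : topologicalKrullDim A.left = g) (ℓ : PC A.left) :
    (∀ j : ℕ, @chiCls _ k _ ⟨A.hom⟩ (j • ℓ) = (j : ℤ) ^ g * @chiCls _ k _ ⟨A.hom⟩ ℓ) ∧
      @chiCls _ k _ ⟨A.hom⟩ (-ℓ) = (-1 : ℤ) ^ g * @chiCls _ k _ ⟨A.hom⟩ ℓ := by
  letI : A.left.Over (Spec (CommRingCat.of k)) := ⟨A.hom⟩
  haveI : IsProper (A.left ↘ Spec (CommRingCat.of k)) := ‹IsProper A.hom›
  obtain ⟨H, hH⟩ := exists_isAmple A
  obtain ⟨Q, hQ, hb⟩ := exists_topForm (k := k) hg hH (fun _ : Unit => ℓ)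
  have key : ∀ c : ℤ, (∀ j : ℕ, (chiCls k (j • (c • ℓ)) : ℚ) = (j : ℚ) ^ g * chiCls k (c • ℓ)) ∧
      (chiCls k (c • ℓ) : ℚ) = MvPolynomial.eval (fun _ => (c : ℚ)) Q := by
    intro c
    obtain ⟨P, hP, hc⟩ := hb (fun _ => c)
    simp only [Fintype.univ_ofSubsingleton, Finset.sum_singleton] at hP
    have hPX : P = Polynomial.C (chiCls k (c • ℓ) : ℚ) * Polynomial.X ^ g := by
      refine Polynomial.eq_of_infinite_eval_eq _ _ (Set.Infinite.mono ?_
        (Set.infinite_range_of_injective (f := fun m : ℕ => (((m + 1) * (m + 1) : ℕ) : ℚ)) fun a b h => ?_))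
      · rintro _ ⟨m, rfl⟩
        show P.eval _ = Polynomial.eval _ _
        rw [hP, chi_sq g hg _ m.succ_pos]
        simp only [Polynomial.eval_mul, Polynomial.eval_C, Polynomial.eval_pow, Polynomial.eval_X, pow_mul]
        push_cast
        ring
      · have h' : (a + 1) * (a + 1) = (b + 1) * (b + 1) := Nat.cast_injective h
        exact Nat.succ_injective (Nat.mul_self_inj.1 h')
    refine ⟨fun j => ?_, ?_⟩
    · rw [← hP j, hPX]
      simp [mul_comm]
    · rw [← hc, hPX]
      simp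
  refine ⟨fun j => ?_, ?_⟩
  · have := (key 1).1 j
    rw [one_smul] at this
    exact_mod_cast this
  · have h1 := (key (-1)).2
    have h2 := (key 1).2
    rw [neg_smul, one_smul] at h1
    rw [one_smul] at h2
    have h3 : MvPolynomial.eval (fun _ => ((-1 : ℤ) : ℚ)) Q = (-1 : ℚ) ^ g * MvPolynomial.eval (fun _ => ((1 : ℤ) : ℚ)) Q := by
      rw [MvPolynomial.eval_eq, MvPolynomial.eval_eq, Finset.mul_sum]
      refine Finset.sum_congr rfl fun d hd => ?_
      have hdeg : ∑ i ∈ d.support, d i = g := by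
        have h := hQ (MvPolynomial.mem_support_iff.1 hd)
        rw [Finsupp.weight_apply] at h
        simpa [Finsupp.sum] using h
      simp only [Int.cast_one, one_pow, Finset.prod_const_one, Int.cast_neg, Finset.prod_pow_eq_pow_sum, hdeg]
      ring
    have h4 : ((chiCls k (-ℓ) : ℤ) : ℚ) = (-1 : ℚ) ^ g * chiCls k ℓ := by rw [h1, h2, h3]
    exact_mod_cast h4

end AlgClosed

variable {k : Type u} [Field k] {X : Over (Spec (CommRingCat.of k))} [GrpObj X] [IsProper X.hom]
  [GeometricallyIntegral X.hom]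

attribute [local instance] Functor.grpObjObj

/-- Euler characteristics are homogeneous over any field. -/
theorem chi_smul_field (g : ℕ) (hg : topologicalKrullDim X.left = g) (ℓ : PC X.left) :
    (∀ j : ℕ, @chiCls _ k _ ⟨X.hom⟩ (j • ℓ) = (j : ℤ) ^ g * @chiCls _ k _ ⟨X.hom⟩ ℓ) ∧
      @chiCls _ k _ ⟨X.hom⟩ (-ℓ) = (-1 : ℤ) ^ g * @chiCls _ k _ ⟨X.hom⟩ ℓ := by
  letI : X.left.Over (Spec (CommRingCat.of k)) := ⟨X.hom⟩
  letI : (gX X).left.Over (Spec (CommRingCat.of (Kbar k))) := ⟨(gX X).hom⟩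
  haveI : IsProper (gX X).hom := MorphismProperty.pullback_snd (P := @IsProper) _ _ inferInstance
  haveI : GeometricallyIntegral (gX X).hom :=
    MorphismProperty.pullback_snd (P := @GeometricallyIntegral) _ _ inferInstance
  have hb : ∀ u : PC X.left, chiCls (Kbar k) (pullP (gp X) u) = chiCls k u := fun u => by
    obtain ⟨M, hM, rfl⟩ := exists_rep u
    rw [← pullP_pc (gp X) M hM (H11Ample.isInvertible_pullback _ hM), chiCls_pc, chiCls_pc]
    exact euler_gM M (H11Ample.isCoh_of_isInvertible hM)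
  haveI : IsCommMonObj X := isCommMonObj_of_isProper_of_geometricallyIntegral X
  obtain ⟨h1, h2⟩ := chi_smul (A := gX X) g (H25AbCube.GeomTate.dim_bc (Ω := Kbar k) X hg) (pullP (gp X) ℓ)
  refine ⟨fun j => ?_, ?_⟩
  · rw [← hb, ← hb ℓ, map_nsmul]
    exact h1 j
  · rw [← hb, ← hb ℓ, map_neg]
    exact h2

theorem pc_tensorList {Y : Scheme.{u}} {M : Y.Modules} (hM : PicF.IsInvertible M) :
    ∀ (l : List Y.Modules), (∀ A ∈ l, A = M) →
      ∃ h, pc (FGA.tensorList l) h = l.length • pc M hM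
  | [], _ => ⟨H11Ample.isInvertible_structureModule, by rw [List.length_nil, zero_smul]; exact pc_one⟩
  | A :: l, hl => by
    obtain ⟨h, e⟩ := pc_tensorList hM l fun B hB => hl B (List.mem_cons_of_mem _ hB)
    obtain rfl := hl A List.mem_cons_self
    exact ⟨H11Ample.isInvertible_tensor hM h, (pc_tensor hM h _).trans (by
      rw [e, List.length_cons, add_smul, one_smul, add_comm])⟩

/-- The self-intersection of a class. -/
theorem intNum_const (g : ℕ) (hg : topologicalKrullDim X.left = g) (L M : X.left.Modules) (hL : PicF.IsInvertible L)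
    (hM : PicF.IsInvertible M) (hLM : pc L hL + pc M hM = 0) :
    @FGA.intNum k _ X.left ⟨X.hom⟩ g g (fun _ : Fin g => M) (Coh.structureModule X.left) =
      (g.factorial : ℤ) * @Curv2.euler k _ X.left ⟨X.hom⟩ L := by
  letI : X.left.Over (Spec (CommRingCat.of k)) := ⟨X.hom⟩
  haveI : IsProper (X.left ↘ Spec (CommRingCat.of k)) := ‹IsProper X.hom›
  obtain ⟨hsm, hneg⟩ := chi_smul_field g hg (pc M hM)
  rw [← eq_neg_of_add_eq_zero_left hLM, chiCls_pc, chiCls_pc] at hneg
  have hterm : ∀ I : Finset (Fin g), FGA.eulerCharLE k X.left (CohB1.tensorMod (FGA.tensorList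
      ((I.sort (· ≤ ·)).map fun _ => M)) (Coh.structureModule X.left)) g =
        (I.card : ℤ) ^ g * Curv2.euler k X.left M := by
    intro I
    obtain ⟨h, e⟩ := pc_tensorList hM ((I.sort (· ≤ ·)).map fun _ => M) (by simp)
    have hT := H11Ample.isInvertible_tensor h (H11Ample.isInvertible_structureModule (X := X.left))
    have e' : pc _ hT = I.card • pc M hM := by
      rw [pc_tensor h H11Ample.isInvertible_structureModule, e, List.length_map, Finset.length_sort, pc_one, add_zero]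
    rw [H28Int.eulerCharLE_eq k hg.le (H11Ample.isCoh_of_isInvertible hT).1, ← chiCls_pc _ hT, e', hsm, chiCls_pc]
  rw [FGA.intNum]
  simp only [hterm]
  rw [hneg, ← Finset.powerset_univ, Finset.sum_powerset_apply_card
    (fun m => (-1 : ℤ) ^ m * ((m : ℤ) ^ g * Curv2.euler k X.left M)), Finset.card_univ, Fintype.card_fin]
  have h := H25Misc.altSum_pow_eq_stirling g g
  rw [Nat.stirlingSecond_self, _root_.mul_one] at h
  rw [← h, Finset.sum_mul]
  refine Finset.sum_congr rfl fun m hm => ?_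
  rw [nsmul_eq_mul]
  have hsign : (-1 : ℤ) ^ (g - m) * (-1) ^ g = (-1) ^ m := by
    have hm' := Finset.mem_range_succ_iff.1 hm
    rw [← pow_add, show g - m + g = m + 2 * (g - m) by omega, pow_add, pow_mul, neg_one_sq, one_pow, _root_.mul_one]
  rw [← hsign]
  ring

end Groth.Agent.H19AbSch.SelfInt
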