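import Groth.Agent.H21Diag.FibreTrivial
import Groth.Agent.H21Diag.BaseChange
import Groth.Agent.H25AbCube.TorsionStr
import Groth.Agent.H28NT.GoodReduction
import Groth.Agent.S11992
import Groth.Agent.S11995

/-!
# Homomorphisms from tori to abelian schemes are trivial
-/

set_option autoImplicit false
set_option linter.style.haveILetI false
set_option linter.unusedSectionVars false
set_option backward.isDefEq.respectTransparency false
set_option maxHeartbeats 1000000
set_option synthInstance.maxHeartbeats 100000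
universe u

open CategoryTheory MonoidalCategory CartesianMonoidalCategory MonObj GrpObj AlgebraicGeometry
open Groth.Agent

noncomputable section

namespace Groth.Agent.H19AbSch.TorusHom

variable {S : Scheme.{u}}

/-- An abelian scheme in the sense of connected fibres has geometrically integral fibres. -/
theorem geometricallyIntegral (A : Over S) [GrpObj A] [Smooth A.hom] [IsProper A.hom]
    (hA : ∀ s : S, ConnectedSpace ↥(A.hom.fiber s)) : GeometricallyIntegral A.hom := by
  rw [GeometricallyIntegral.iff_geometricallyIntegral_fiber]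
  intro s
  let B : Over (Spec (CommRingCat.of (S.residueField s))) := Red.bc (S.fromSpecResidueField s) A
  letI : GrpObj B := Functor.grpObjObj
  haveI : IsProper B.hom := MorphismProperty.pullback_snd (P := @IsProper) _ _ inferInstance
  haveI : Smooth B.hom := MorphismProperty.pullback_snd (P := @Smooth) _ _ inferInstance
  haveI : ConnectedSpace ↥B.left := hA s
  haveI : GeometricallyConnected B.hom :=
    H28NT.geometricallyConnected_of_section B.hom (MonObj.one (X := B)).left (Over.w (MonObj.one (X := B)))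
  exact H25AbCube.geometricallyIntegral_of_smooth B

/-- The action of the source on the target of a homomorphism, by translation. -/
def transAct {T A : Over S} [GrpObj T] [GrpObj A] (f : T ⟶ A) [IsMonHom f] : AlgGrp.Action T A where
  act := (fst T A ≫ f) * snd T A
  one_act := by
    rw [MonObj.comp_mul, whiskerRight_fst_assoc, whiskerRight_snd, IsMonHom.one_hom f,
      show fst (𝟙_ (Over S)) A ≫ η[A] = 1 by rw [Hom.one_def, toUnit_unique (toUnit _) (fst (𝟙_ (Over S)) A)],
      _root_.one_mul, leftUnitor_hom]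
  mul_act := by
    have hμ : μ[T] = fst T T * snd T T := by rw [Hom.mul_def, lift_fst_snd, Category.id_comp]
    simp only [MonObj.comp_mul, whiskerRight_fst_assoc, whiskerRight_snd, whiskerLeft_fst_assoc, whiskerLeft_snd,
      whiskerLeft_snd_assoc, hμ, MonObj.mul_comp, associator_hom_fst_assoc, associator_hom_snd_fst_assoc,
      associator_hom_snd_snd, associator_hom_fst, Category.assoc, _root_.mul_assoc]

theorem lift_transAct {T A : Over S} [GrpObj T] [GrpObj A] (f : T ⟶ A) [IsMonHom f] {Y : Over S}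
    (g : Y ⟶ T) (x : Y ⟶ A) : lift g x ≫ (transAct f).act = (g ≫ f) * x := by
  rw [transAct, MonObj.comp_mul, lift_fst_assoc, lift_snd]

variable {K : Type u} [Field K]

/-- The coordinate ring of the punctured line. -/
abbrev LK (K : Type u) [Field K] : Type u :=
  Localization.Away (MvPolynomial.X PUnit.unit : MvPolynomial PUnit.{u + 1} K)

/-- A map from the punctured line to an abelian variety is constant. -/
theorem exists_const (A : Over (Spec (CommRingCat.of K))) [GrpObj A] [IsProper A.hom]
    [GeometricallyIntegral A.hom] (φ : Spec (CommRingCat.of (LK K)) ⟶ A.left)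
    (hφ : φ ≫ A.hom = Spec.map (CommRingCat.ofHom (algebraMap K (LK K)))) :
    ∃ a : Spec (CommRingCat.of K) ⟶ A.left,
      φ = Spec.map (CommRingCat.ofHom (algebraMap K (LK K))) ≫ a := by
  let Ω := 𝔸(PUnit.{u + 1}; Spec (CommRingCat.of K))
  let p : Ω ⟶ Spec (CommRingCat.of K) := Ω ↘ Spec (CommRingCat.of K)
  let j₀ : Spec (CommRingCat.of (LK K)) ⟶ Spec (CommRingCat.of (MvPolynomial PUnit.{u + 1} K)) :=
    Spec.map (CommRingCat.ofHom (algebraMap (MvPolynomial PUnit.{u + 1} K) (LK K)))
  haveI : IsOpenImmersion j₀ :=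
    IsOpenImmersion.of_isLocalization (MvPolynomial.X PUnit.unit : MvPolynomial PUnit.{u + 1} K)
  let jU : Spec (CommRingCat.of (LK K)) ⟶ Ω :=
    j₀ ≫ (AffineSpace.SpecIso PUnit.{u + 1} (CommRingCat.of K)).inv
  have hjU : jU ≫ p = Spec.map (CommRingCat.ofHom (algebraMap K (LK K))) := by
    simp only [jU, p, Ω, Category.assoc, AffineSpace.SpecIso_inv_over, j₀, ← Spec.map_comp]
    congr 1
  let U := jU.opensRange
  let e := jU.isoOpensRange
  have he : e.hom ≫ U.ι = jU := Scheme.Hom.isoOpensRange_hom_ι jU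
  haveI : Nontrivial (LK K) :=
    (IsLocalization.Away.lift (MvPolynomial.X PUnit.unit : MvPolynomial PUnit.{u + 1} K)
      (g := MvPolynomial.eval (fun _ => (1 : K))) (by simp)).domain_nontrivial
  haveI : Nonempty ↥(Spec (CommRingCat.of (LK K))) := inferInstanceAs (Nonempty (PrimeSpectrum (LK K)))
  have hU : (U : Set Ω).Nonempty := ⟨_, (Classical.arbitrary ↥(Spec (CommRingCat.of (LK K)))), rfl⟩
  haveI : Smooth p := H06Unram.smooth_affineSpace_over _ _
  obtain ⟨F, hF, hFU⟩ := Groth.Agent.S11992.result K Ω p A U hU (e.inv ≫ φ)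
    (by rw [Category.assoc, hφ, ← hjU]; exact (congrArg (fun j => e.inv ≫ j ≫ p) he.symm).trans (by simp [e]))
  let X : Over (Spec (CommRingCat.of K)) := Over.mk p
  haveI : Smooth X.hom := ‹Smooth p›
  haveI : IsSeparated X.hom := inferInstanceAs (IsSeparated (Ω ↘ Spec (CommRingCat.of K)))
  haveI : QuasiCompact X.hom := inferInstanceAs (QuasiCompact (Ω ↘ Spec (CommRingCat.of K)))
  haveI : GeometricallyIntegral X.hom :=
    inferInstanceAs (GeometricallyIntegral (Ω ↘ Spec (CommRingCat.of K)))
  haveI : IsIntegral (Spec (CommRingCat.of K)) := inferInstance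
  haveI : IrreducibleSpace Ω := inferInstance
  obtain ⟨a, ha⟩ := Groth.Agent.S11995.result K X A PUnit.{u + 1} U hU U.ι rfl
    (by rw [DenseRange, Scheme.Opens.range_ι]; exact U.isOpen.dense hU) (Over.homMk F hF : X ⟶ A)
  refine ⟨a.left, ?_⟩
  have hF' : F = p ≫ a.left := congrArg CommaMorphism.left ha
  rw [← hjU, ← he, Category.assoc, Category.assoc, ← hF', hFU, e.hom_inv_id_assoc]

variable {U : Scheme.{u}} {u₀ : U ⟶ S} {T A : Over S} [GrpObj T] [GrpObj A] {M : Type} [AddCommGroup M]
  (e : Grp.mk (Red.bc u₀ T) ≅ Grp.mk (Red.DS U M)) (f : T ⟶ A) [IsMonHom f]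

/-- The character sending a point of the lattice to a power of a unit. -/
def pw {B : Type u} [CommRing B] (l : M →+ ℤ) (b : Bˣ) : Multiplicative M →* B :=
  (Units.coeHom B).comp ((zpowersHom Bˣ b).comp l.toMultiplicative)

theorem pw_apply {B : Type u} [CommRing B] (l : M →+ ℤ) (b : Bˣ) (m : Multiplicative M) :
    pw l b m = ((b ^ l m.toAdd : Bˣ) : B) := rfl

theorem pw_comp {B B' : Type u} [CommRing B] [CommRing B'] (l : M →+ ℤ) (b : Bˣ) (φ : B →+* B') :
    φ.toMonoidHom.comp (pw l b) = pw l (Units.map φ.toMonoidHom b) := by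
  refine MonoidHom.ext fun m => ?_
  rw [MonoidHom.comp_apply, pw_apply, pw_apply, ← map_zpow, Units.coe_map]

theorem pw_one {B : Type u} [CommRing B] (l : M →+ ℤ) : pw l (1 : Bˣ) = 1 := by
  ext m
  simp [pw_apply]

/-- Functoriality of the composite of a point with a homomorphism. -/
theorem gpt_comp' {B B' : Type u} [CommRing B] [CommRing B'] (y : Spec (CommRingCat.of B) ⟶ U)
    (χ : Multiplicative M →* B) (φ : B →+* B') :
    (H21Diag.gpt e (Spec.map (CommRingCat.ofHom φ) ≫ y) (φ.toMonoidHom.comp χ) ≫ f).left =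
      Spec.map (CommRingCat.ofHom φ) ≫ (H21Diag.gpt e y χ ≫ f).left := by
  rw [Over.comp_left, Over.comp_left]
  exact (congrArg (· ≫ f.left) (H21Diag.gpt_comp e y χ φ)).trans (Category.assoc _ _ _)

theorem comp_eq_one_pw [IsProper A.hom] [GeometricallyIntegral A.hom] (z : Spec (CommRingCat.of K) ⟶ U)
    {B : Type u} [CommRing B] [Algebra K B] (l : M →+ ℤ) (b : Bˣ) :
    H21Diag.gpt e (Spec.map (CommRingCat.ofHom (algebraMap K B)) ≫ z) (pw l b) ≫ f = 1 := by
  let L := LK K
  let σ := Spec.map (CommRingCat.ofHom (algebraMap K L))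
  let t : Lˣ := (IsLocalization.Away.algebraMap_isUnit (S := L)
    (MvPolynomial.X PUnit.unit : MvPolynomial PUnit.{u + 1} K)).unit
  have ht : (t : L) = algebraMap (MvPolynomial PUnit.{u + 1} K) L (MvPolynomial.X PUnit.unit) := rfl
  let zS : Spec (CommRingCat.of K) ⟶ S := z ≫ u₀
  let A' : Over (Spec (CommRingCat.of K)) := Red.bc zS A
  letI : GrpObj A' := Functor.grpObjObj
  haveI : IsProper A'.hom := MorphismProperty.pullback_snd (P := @IsProper) _ _ inferInstance
  haveI : GeometricallyIntegral A'.hom :=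
    MorphismProperty.pullback_snd (P := @GeometricallyIntegral) _ _ inferInstance
  let q := H21Diag.gpt e (σ ≫ z) (pw l t) ≫ f
  have hq : q.left ≫ A.hom = σ ≫ zS := by
    rw [Over.w q]; exact Category.assoc _ _ _
  let ψ : Spec (CommRingCat.of L) ⟶ A'.left := Limits.pullback.lift q.left σ hq
  obtain ⟨a, ha⟩ := exists_const A' ψ (Limits.pullback.lift_snd _ _ _)
  let a' := a ≫ Limits.pullback.fst A.hom zS
  have hqa : q.left = σ ≫ a' := by
    simp only [a']
    rw [← Category.assoc, ← ha]
    exact (Limits.pullback.lift_fst _ _ _).symm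
  have key : ∀ {B' : Type u} [CommRing B'] [Algebra K B'] (c : B'ˣ),
      (H21Diag.gpt e (Spec.map (CommRingCat.ofHom (algebraMap K B')) ≫ z) (pw l c) ≫ f).left =
        Spec.map (CommRingCat.ofHom (algebraMap K B')) ≫ a' := by
    intro B' _ _ c
    let φ : L →+* B' := IsLocalization.Away.lift (MvPolynomial.X PUnit.unit : MvPolynomial PUnit.{u + 1} K)
      (g := (MvPolynomial.aeval (R := K) fun _ => (c : B')).toRingHom) (by simp)
    have hφ : φ.comp (algebraMap K L) = algebraMap K B' := by
      refine RingHom.ext fun r => ?_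
      rw [RingHom.comp_apply, IsScalarTower.algebraMap_apply K (MvPolynomial PUnit.{u + 1} K) L]
      simp only [φ, IsLocalization.Away.lift_eq]
      simp
    have hc : Units.map φ.toMonoidHom t = c := Units.ext (by
      change φ (t : L) = c
      rw [ht]; simp [φ, IsLocalization.Away.lift_eq])
    have hy : Spec.map (CommRingCat.ofHom φ) ≫ σ = Spec.map (CommRingCat.ofHom (algebraMap K B')) := by
      rw [← Spec.map_comp, ← CommRingCat.ofHom_comp, hφ]
    have h := gpt_comp' e f (σ ≫ z) (pw l t) φ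
    rw [pw_comp, hc] at h
    have e1 : Spec.map (CommRingCat.ofHom φ) ≫ σ ≫ z = Spec.map (CommRingCat.ofHom (algebraMap K B')) ≫ z := by
      rw [← Category.assoc, hy]
    have e2 : Spec.map (CommRingCat.ofHom φ) ≫ q.left = Spec.map (CommRingCat.ofHom (algebraMap K B')) ≫ a' := by
      rw [hqa, ← Category.assoc, hy]
    refine Eq.trans ?_ (h.trans e2)
    congr 2 <;> first | rw [e1] | (congr 1; exact e1.symm)
  apply Over.OverMorphism.ext
  rw [key b]
  have h1 := key (B' := K) 1
  rw [pw_one, H21Diag.gpt_one, MonObj.one_comp, Algebra.algebraMap_self, CommRingCat.ofHom_id, Spec.map_id] at h1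
  have h1' : _ = a' := h1.trans (Category.id_comp a')
  rw [← h1']
  simp only [Hom.one_def, Over.comp_left, Over.toUnit_left, Over.mk_hom, Category.assoc]
  exact congrArg (Spec.map (CommRingCat.ofHom (algebraMap K B)) ≫ ·) (Category.id_comp _)

variable [Module.Free ℤ M] [Module.Finite ℤ M] [IsCommMonObj A]

/-- A homomorphism to an abelian scheme kills the points of a torus lying over a field. -/
theorem comp_eq_one [IsProper A.hom] [GeometricallyIntegral A.hom] (z : Spec (CommRingCat.of K) ⟶ U)
    {B : Type u} [CommRing B] [Algebra K B] (χ : Multiplicative M →* B) :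
    H21Diag.gpt e (Spec.map (CommRingCat.ofHom (algebraMap K B)) ≫ z) χ ≫ f = 1 := by
  classical
  let b := Module.Free.chooseBasis ℤ M
  let y := Spec.map (CommRingCat.ofHom (algebraMap K B)) ≫ z
  let Φ : (Multiplicative M →* B) →* (Over.mk (y ≫ u₀) ⟶ A) :=
    { toFun := fun χ => H21Diag.gpt e y χ ≫ f
      map_one' := by rw [H21Diag.gpt_one, MonObj.one_comp]
      map_mul' := fun χ χ' => by rw [H21Diag.gpt_mul, MonObj.mul_comp] }
  have hχ : χ = ∏ i, pw (b.coord i).toAddMonoidHom (χ.toHomUnits (Multiplicative.ofAdd (b i))) := by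
    refine MonoidHom.ext fun m => ?_
    rw [MonoidHom.finsetProd_apply]
    have hm : m = ∏ i, (Multiplicative.ofAdd (b i)) ^ (b.coord i m.toAdd) :=
      Multiplicative.toAdd.injective (by
        rw [toAdd_prod]
        simpa using (b.sum_repr m.toAdd).symm)
    conv_lhs => rw [← MonoidHom.coe_toHomUnits χ, hm, map_prod, Units.coe_prod]
    refine Finset.prod_congr rfl fun i _ => ?_
    rw [pw_apply, map_zpow]
    rfl
  show Φ χ = 1
  rw [hχ, map_prod]
  exact Finset.prod_eq_one fun i _ => comp_eq_one_pw e f z _ _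

omit [Module.Free ℤ M] [Module.Finite ℤ M] in
/-- Homomorphisms from tori to abelian schemes are trivial. -/
theorem eq_one [IsProper A.hom] [GeometricallyIntegral A.hom] [LocallyOfFiniteType A.hom] {S' : Scheme.{u}} (v : S' ⟶ S) [Flat v]
    [Surjective v]
    (hloc : ∀ s' : S', ∃ U : S'.Opens, s' ∈ U ∧ ∃ r : ℕ,
      Nonempty (Grp.mk (Red.bc (U.ι ≫ v) T) ≅ Grp.mk (Red.DS (U : Scheme.{u}) (Fin r → ℤ)))) :
    f = 1 := by
  have hfield : ∀ (s : S) (Y : Over S) (p : Y.left ⟶ Spec (S.residueField s)),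
      p ≫ S.fromSpecResidueField s = Y.hom → ∀ g : Y ⟶ T, g ≫ f = 1 := by
    intro s Y p hp g
    obtain ⟨s', rfl⟩ := v.surjective s
    obtain ⟨U', hs', r, ⟨e'⟩⟩ := hloc s'
    let j := v.residueFieldMap s'
    let σ := Spec.map j
    haveI : Flat σ := inferInstance
    haveI : Surjective σ := inferInstance
    let z : Spec (S'.residueField s') ⟶ (U' : Scheme.{u}) :=
      IsOpenImmersion.lift U'.ι (S'.fromSpecResidueField s') (by
        rw [Scheme.range_fromSpecResidueField, Scheme.Opens.range_ι]; simpa using hs')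
    have hz : z ≫ U'.ι ≫ v = σ ≫ S.fromSpecResidueField (v s') := by
      rw [← Category.assoc, IsOpenImmersion.lift_fac]
      exact (Scheme.Hom.SpecMap_residueFieldMap_fromSpecResidueField v s').symm
    apply Over.OverMorphism.ext
    let π := Limits.pullback.fst p σ
    haveI : Epi π := Flat.epi_of_flat_of_surjective _
    rw [← cancel_epi π]
    refine (Limits.pullback p σ).affineCover.hom_ext _ _ fun i => ?_
    set c := (Limits.pullback p σ).affineCover.f i
    let W := (Limits.pullback p σ).affineCover.X i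
    haveI : IsAffine W := inferInstance
    rw [← cancel_epi W.isoSpec.inv]
    let R := Γ(W, ⊤)
    obtain ⟨α, hα⟩ := Spec.map_surjective (W.isoSpec.inv ≫ c ≫ Limits.pullback.snd p σ)
    letI : Algebra (S'.residueField s') R := α.hom.toAlgebra
    let y : Spec (CommRingCat.of R) ⟶ (U' : Scheme.{u}) :=
      Spec.map (CommRingCat.ofHom (algebraMap (S'.residueField s') R)) ≫ z
    have hy : (W.isoSpec.inv ≫ c ≫ π) ≫ Y.hom = y ≫ U'.ι ≫ v := by
      simp only [y, Category.assoc, hz]
      rw [show Spec.map (CommRingCat.ofHom (algebraMap (S'.residueField s') R)) =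
        W.isoSpec.inv ≫ c ≫ Limits.pullback.snd p σ from hα, ← hp, ← Category.assoc π,
        Limits.pullback.condition]
      simp only [Category.assoc]
    let τ : Over.mk (y ≫ U'.ι ≫ v) ⟶ Y := Over.homMk (W.isoSpec.inv ≫ c ≫ π) hy
    obtain ⟨χ, hχ⟩ := H21Diag.gpt_surjective e' y (τ ≫ g)
    have h0 := comp_eq_one (K := S'.residueField s') e' f z (B := R) χ
    have h : τ ≫ g ≫ f = 1 :=
      (Category.assoc _ _ _).symm.trans ((congrArg (· ≫ f) hχ.symm).trans h0)
    have h' := congrArg CommaMorphism.left (h.trans (MonObj.comp_one τ).symm)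
    have h'' : (W.isoSpec.inv ≫ c ≫ π) ≫ (g ≫ f).left = (W.isoSpec.inv ≫ c ≫ π) ≫ (1 : Y ⟶ A).left :=
      (congrArg CommaMorphism.left h).trans ((congrArg CommaMorphism.left (MonObj.comp_one τ)).symm)
    simpa only [Category.assoc] using h''
  have key := H21Diag.action_trivial_of_fibres (a := transAct f) v
    (fun s' => by
      obtain ⟨U', h, r, he⟩ := hloc s'
      exact ⟨U', h, Fin r → ℤ, inferInstance, he⟩)
    (fun s Y p hp g x => by rw [lift_transAct, hfield s Y p hp g, _root_.one_mul]) T (𝟙 T) 1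
  rwa [lift_transAct, _root_.mul_one, Category.id_comp] at key

/-- Homomorphisms from tori to abelian schemes are trivial. -/
theorem eq_one_of_isTorus {T A : Over S} [GrpObj T] [GrpObj A] [IsCommMonObj A] (hT : Red.IsTorus T) [Smooth A.hom]
    [IsProper A.hom] (hA : ∀ s : S, ConnectedSpace ↥(A.hom.fiber s)) (f : T ⟶ A) [IsMonHom f] : f = 1 := by
  haveI := geometricallyIntegral A hA
  obtain ⟨S', v, hv, hvs, -, hloc⟩ := hT
  exact eq_one f v hloc

/-- Homomorphisms from a torus to an abelian scheme are trivial after every base change. -/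
theorem eq_one_bc {T A : Over S} [GrpObj T] [GrpObj A] [IsCommMonObj A] (hT : Red.IsTorus T) [Smooth A.hom]
    [IsProper A.hom] (hA : ∀ s : S, ConnectedSpace ↥(A.hom.fiber s)) {X : Scheme.{u}} (h : X ⟶ S)
    (f : Red.bc h T ⟶ Red.bc h A) [IsMonHom f] : f = 1 := by
  haveI := geometricallyIntegral A hA
  haveI : IsCommMonObj (Red.bc h A) := ⟨by
    have key : (snd (Red.bc h A) (Red.bc h A) * fst (Red.bc h A) (Red.bc h A)) =
        fst (Red.bc h A) (Red.bc h A) * snd (Red.bc h A) (Red.bc h A) := by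
      apply (H21Diag.bcEquiv h A _).symm.injective
      rw [H21Diag.bcEquiv_symm_mul, H21Diag.bcEquiv_symm_mul, mul_comm]
    rw [Hom.mul_def, Hom.mul_def, lift_fst_snd, Category.id_comp] at key
    convert key using 2
    apply CartesianMonoidalCategory.hom_ext <;> simp⟩
  haveI : IsProper (Red.bc h A).hom := MorphismProperty.pullback_snd (P := @IsProper) _ _ inferInstance
  haveI : GeometricallyIntegral (Red.bc h A).hom :=
    MorphismProperty.pullback_snd (P := @GeometricallyIntegral) _ _ inferInstance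
  obtain ⟨S', v, hv, hvs, -, hloc⟩ := hT
  refine eq_one f (Limits.pullback.snd v h) fun x => ?_
  obtain ⟨U', hU', r, ⟨e'⟩⟩ := hloc ((Limits.pullback.fst v h).base x)
  let Q := Limits.pullback.fst v h ⁻¹ᵁ U'
  let ε := (Limits.pullback.fst v h).resLE U' Q le_rfl
  have hε : (Q.ι ≫ Limits.pullback.snd v h) ≫ h = ε ≫ U'.ι ≫ v := by
    rw [← Category.assoc ε, Scheme.Hom.resLE_comp_ι, Category.assoc, Category.assoc, Limits.pullback.condition]
  exact ⟨Q, hU', r, ⟨(H21Diag.bcCompIso _ h T).symm ≪≫ H21Diag.bcCongrIso hε T ≪≫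
    H21Diag.bcCompIso ε (U'.ι ≫ v) T ≪≫ H21Diag.bcMapIso ε e' ≪≫ H21Diag.bcDSIso ε _⟩⟩

/-- A natural family of homomorphisms from the points of a torus to those of an abelian scheme is trivial. -/
theorem natural_eq_one {T A : Over S} [GrpObj T] [GrpObj A] [IsCommMonObj A] (hT : Red.IsTorus T) [Smooth A.hom]
    [IsProper A.hom] (hA : ∀ s : S, ConnectedSpace ↥(A.hom.fiber s)) (X₀ : Over S)
    (F : ∀ W : Over X₀, (W.left ⟶ T) → (W.left ⟶ A))
    (Fmul : ∀ W (g g' : W.left ⟶ T), F W (g * g') = F W g * F W g')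
    (Fnat : ∀ {W W' : Over X₀} (m : W' ⟶ W) (g : W.left ⟶ T), F W' (m.left ≫ g) = m.left ≫ F W g)
    (W : Over X₀) (g : W.left ⟶ T) : F W g = 1 := by
  let W₀ : Over X₀ := Over.mk (snd T X₀)
  let e₀ : T ⊗ X₀ ⟶ A := F W₀ (fst T X₀)
  have Funiv : ∀ (W : Over X₀) (g : W.left ⟶ T), F W g = lift g W.hom ≫ e₀ := fun W g => by
    let m : W ⟶ W₀ := Over.homMk (lift g W.hom) (lift_snd g W.hom)
    exact (congrArg (F W) (lift_fst g W.hom).symm).trans (Fnat m (fst T X₀))
  let f : Red.bc X₀.hom T ⟶ Red.bc X₀.hom A :=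
    Over.homMk (Limits.pullback.lift e₀.left (Limits.pullback.snd T.hom X₀.hom)
      ((Over.w e₀).trans (Over.w (snd T X₀)).symm)) (Limits.pullback.lift_snd _ _ _)
  have hf : ∀ (Z : Over X₀.left) (a : Z ⟶ Red.bc X₀.hom T),
      a ≫ f = H21Diag.bcEquiv X₀.hom A Z
        (F (Over.mk (Over.homMk Z.hom rfl : (Over.map X₀.hom).obj Z ⟶ X₀))
          ((H21Diag.bcEquiv X₀.hom T Z).symm a)) := by
    intro Z a
    refine H21Diag.bc_ext ?_
    rw [H21Diag.bcEquiv_left_fst, Funiv, Over.comp_left, Category.assoc, Over.comp_left]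
    show a.left ≫ Limits.pullback.lift _ _ _ ≫ Limits.pullback.fst _ _ = _
    rw [Limits.pullback.lift_fst]
    refine congrArg (· ≫ e₀.left) ?_
    let a' := (H21Diag.bcEquiv X₀.hom T Z).symm a
    let b' : (Over.map X₀.hom).obj Z ⟶ X₀ := Over.homMk Z.hom rfl
    have h1 : a.left ≫ Limits.pullback.fst T.hom X₀.hom = a'.left := by
      rw [← H21Diag.bcEquiv_left_fst X₀.hom T Z a', Equiv.apply_symm_apply]
    have h2 : (lift a' b').left ≫ (fst T X₀).left = a'.left := by rw [← Over.comp_left, lift_fst]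
    have h3 : (lift a' b').left ≫ (snd T X₀).left = Z.hom := by rw [← Over.comp_left, lift_snd]; rfl
    apply Limits.pullback.hom_ext
    · exact h1.trans h2.symm
    · exact (Over.w a).trans h3.symm
  have hmul : ∀ (Z : Over X₀.left) (a b : Z ⟶ Red.bc X₀.hom T), (a * b) ≫ f = (a ≫ f) * (b ≫ f) :=
    fun Z a b => by rw [hf, hf, hf, H21Diag.bcEquiv_symm_mul, Fmul, H21Diag.bcEquiv_mul]
  haveI : IsMonHom f :=
    { one_hom := by
        have h := hmul (𝟙_ _) 1 1
        rw [_root_.mul_one] at h
        simpa [Hom.one_def, toUnit_unit] using (mul_eq_left.mp h.symm)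
      mul_hom := by
        have h := hmul _ (fst (Red.bc X₀.hom T) (Red.bc X₀.hom T)) (snd _ _)
        rw [Hom.mul_def, Hom.mul_def, lift_fst_snd, Category.id_comp] at h
        rw [h]
        congr 1
      }
  have hf1 : f = 1 := eq_one_bc hT hA X₀.hom f
  have he : e₀ = 1 := by
    let Z : Over X₀.left := Over.mk (snd T X₀).left
    let g' : (Over.map X₀.hom).obj Z ⟶ T := Over.homMk (fst T X₀).left
      ((Over.w (fst T X₀)).trans (Over.w (snd T X₀)).symm)
    let W' : Over X₀ := Over.mk (Over.homMk Z.hom rfl : (Over.map X₀.hom).obj Z ⟶ X₀)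
    let i : T ⊗ X₀ ⟶ (Over.map X₀.hom).obj Z := Over.homMk (𝟙 _) ((Category.id_comp _).trans (Over.w (snd T X₀)))
    let m : W₀ ⟶ W' := Over.homMk i (Over.OverMorphism.ext (Category.id_comp _))
    have h1 := hf Z (H21Diag.bcEquiv X₀.hom T Z g')
    rw [hf1, MonObj.comp_one, Equiv.symm_apply_apply] at h1
    have h2 : F W' g' = 1 := by
      have h3 := congrArg (H21Diag.bcEquiv X₀.hom A Z).symm h1
      rw [Equiv.symm_apply_apply] at h3
      have h4 := H21Diag.bcEquiv_symm_mul X₀.hom A Z 1 1
      rw [_root_.mul_one, left_eq_mul] at h4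
      exact h3.symm.trans h4
    have hi : i ≫ g' = fst T X₀ := Over.OverMorphism.ext (Category.id_comp _)
    show F W₀ (fst T X₀) = 1
    rw [← hi]
    exact ((Fnat m g').trans (congrArg (i ≫ ·) h2)).trans (MonObj.comp_one i)
  rw [Funiv, he, MonObj.comp_one]

end Groth.Agent.H19AbSch.TorusHom
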